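import Groth.Agent.GrpField.SurjSmooth
import Groth.Agent.GrpField.Dimension
import Groth.Agent.GrpField.Range
import Groth.Agent.GrpField.Kernel
import Groth.Agent.DimChain.Morphism
import Groth.Agent.UnitUnram.Basic
import Groth.Prelude.Def_AlgGrp

/-!
# Quasi-finite homomorphisms between algebraic groups of the same dimension
-/

set_option autoImplicit false
set_option backward.isDefEq.respectTransparency false
set_option backward.isDefEq.respectTransparency.types false
set_option linter.style.haveILetI false
set_option maxHeartbeats 1000000
set_option synthInstance.maxHeartbeats 400000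
universe u

open CategoryTheory CategoryTheory.Limits MonoidalCategory CartesianMonoidalCategory MonObj AlgebraicGeometry
open scoped CategoryTheory.Obj

namespace Groth.Agent.NeronSS

variable {k : Type u} [Field k] {G H : Over (Spec (CommRingCat.of k))} [GrpObj G] [GrpObj H] (f : G ⟶ H)
  [IsMonHom f]

/-- A homomorphism to a reduced algebraic group whose image contains a nonempty open set is flat. -/
theorem flat_of_range [LocallyOfFiniteType G.hom] [LocallyOfFiniteType H.hom] [QuasiCompact f.left]
    [IsReduced H.left] {W : Set H.left} (hW : IsOpen W) (hne : W.Nonempty) (h : W ⊆ Set.range f.left) :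
    Flat f.left := by
  haveI : LocallyOfFiniteType (f.left ≫ H.hom) := by rw [Over.w]; infer_instance
  haveI : LocallyOfFiniteType f.left := locallyOfFiniteType_of_comp f.left H.hom
  obtain ⟨U, hU, hfl, -⟩ := GenFree.exists_dense_flat_fp f.left
  obtain ⟨y, hyU, hyW⟩ := hU.exists_mem_open hW hne
  obtain ⟨x, rfl⟩ := h hyW
  haveI := hfl
  exact GrpField.flat_of_flat_stalkMap f (GrpField.flat_stalkMap_of_restrict f.left U hyU)

/-- A quasi-finite homomorphism to a smooth group of no bigger dimension is flat. -/
theorem flat_of_lqf_of_dim [LocallyOfFiniteType G.hom] [LocallyOfFiniteType H.hom] [QuasiCompact f.left]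
    [IsReduced H.left] [LocallyQuasiFinite f.left] (n : ℕ)
    (hG : (n : WithBot ℕ∞) ≤ topologicalKrullDim G.left) (hH : topologicalKrullDim H.left ≤ (n : WithBot ℕ∞)) :
    Flat f.left := by
  haveI : IsLocallyNoetherian H.left := LocallyOfFiniteType.isLocallyNoetherian H.hom
  haveI : LocallyOfFiniteType (f.left ≫ H.hom) := by rw [Over.w]; infer_instance
  haveI : LocallyOfFiniteType f.left := locallyOfFiniteType_of_comp f.left H.hom
  haveI : IsLocallyNoetherian G.left := LocallyOfFiniteType.isLocallyNoetherian G.hom
  haveI : LocallyOfFinitePresentation f.left := LocallyOfFinitePresentation.iff_locallyOfFiniteType.2 inferInstance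
  haveI : Nonempty ↥(Spec (CommRingCat.of k)) := ⟨IsLocalRing.closedPoint k⟩
  let R := Set.range f.left
  have hR : IsClosed R := GrpField.isClosed_range f
  have hd : (n : WithBot ℕ∞) ≤ topologicalKrullDim R := by
    refine hG.trans ((DimChain.le_closure_range f.left).trans (le_of_eq ?_))
    exact IsHomeomorph.topologicalKrullDim_eq _ (Homeomorph.setCongr hR.closure_eq).isHomeomorph
  obtain ⟨z, hz, hmax⟩ : ∃ z : H.left, z ∈ R ∧ ∀ y : H.left, y ⤳ z → y = z := by
    rw [topologicalKrullDim] at hd
    obtain ⟨p, hp⟩ := (Order.le_krullDim_iff (n := n)).1 hd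
    let q : LTSeries (TopologicalSpace.IrreducibleCloseds H.left) :=
      p.map _ (TopologicalSpace.IrreducibleCloseds.map_strictMono_of_isInducing
        (f := (Subtype.val : R → H.left)) Topology.IsInducing.subtypeVal)
    have hsub : (q.last : Set H.left) ⊆ R := by
      simp only [q, LTSeries.last_map, TopologicalSpace.IrreducibleCloseds.coe_map]
      exact closure_minimal (by rintro _ ⟨a, -, rfl⟩; exact a.2) hR
    obtain ⟨z, hz⟩ := QuasiSober.sober q.last.isIrreducible q.last.isClosed
    refine ⟨z, hsub hz.mem, fun y hy => ?_⟩
    by_contra hne
    let L : TopologicalSpace.IrreducibleCloseds H.left :=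
      { carrier := closure {y}
        isIrreducible' := isIrreducible_singleton.closure
        isClosed' := isClosed_closure }
    have hle : q.last ≤ L := by
      show (q.last : Set H.left) ⊆ closure {y}
      rw [← hz.def]
      exact closure_minimal (Set.singleton_subset_iff.2 (specializes_iff_mem_closure.1 hy)) isClosed_closure
    have hlt : q.last < L := lt_of_le_of_ne hle fun e => hne (IsGenericPoint.eq (S := closure {y})
      (isGenericPoint_closure) (by rw [show closure {y} = (q.last : Set H.left) from (congrArg SetLike.coe e).symm]; exact hz))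
    have h1 : ((n + 1 : ℕ) : WithBot ℕ∞) ≤ topologicalKrullDim H.left := by
      rw [topologicalKrullDim, show n + 1 = (q.snoc L hlt).length by simp [q, hp]]
      exact Order.LTSeries.length_le_krullDim _
    exact absurd (h1.trans hH) (by exact_mod_cast Nat.not_succ_le_self n)
  obtain ⟨W, hW, hne, hWZ⟩ := GrpField.exists_open_subset_component H.left
    (irreducibleComponent_mem_irreducibleComponents z)
  refine flat_of_range f hW hne (hWZ.trans fun y hy => ?_)
  obtain ⟨g, hg⟩ := QuasiSober.sober (irreducibleComponent_mem_irreducibleComponents z).1 isClosed_irreducibleComponent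
  rw [hmax g (hg.specializes mem_irreducibleComponent)] at hg
  exact (hg.specializes hy).mem_closed hR hz

/-- An isogeny of algebraic groups with smooth target preserves the dimension. -/
theorem dim_eq_of_isogeny [LocallyOfFiniteType G.hom] [LocallyOfFiniteType H.hom] [QuasiCompact f.left]
    [IsReduced H.left] [Surjective f.left] [LocallyQuasiFinite f.left] :
    topologicalKrullDim G.left = topologicalKrullDim H.left := by
  haveI : IsLocallyNoetherian H.left := LocallyOfFiniteType.isLocallyNoetherian H.hom
  haveI : IsLocallyNoetherian G.left := LocallyOfFiniteType.isLocallyNoetherian G.hom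
  haveI : LocallyOfFiniteType (f.left ≫ H.hom) := by rw [Over.w]; infer_instance
  haveI : LocallyOfFiniteType f.left := locallyOfFiniteType_of_comp f.left H.hom
  haveI : LocallyOfFinitePresentation f.left := LocallyOfFinitePresentation.iff_locallyOfFiniteType.2 inferInstance
  haveI : Flat f.left := GrpField.flat_of_surjective_reduced f
  haveI : UniversallyOpen f.left := UniversallyOpen.of_flat _
  refine le_antisymm ((DimChain.le_closure_range f.left).trans ?_)
    (DimChain.le_of_surjective f.left f.left.surjective (Or.inl f.left.isOpenMap))
  exact Topology.IsInducing.subtypeVal.topologicalKrullDim_le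

end Groth.Agent.NeronSS
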