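import Groth.Agent.NeronSS.Torsion
import Groth.Agent.NeronSS.FlatDim
import Groth.Agent.GrpDim.Flat
import Groth.Agent.SmoothRed.Scheme
import Groth.Agent.ValLib.FieldPoint
import Groth.Agent.NeronGen.Dense

/-!
# Flatness and injectivity at a specialisation without additive subgroups
-/

set_option autoImplicit false
set_option backward.isDefEq.respectTransparency false
set_option backward.isDefEq.respectTransparency.types false
set_option linter.style.haveILetI false
set_option maxHeartbeats 1000000
set_option synthInstance.maxHeartbeats 400000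
universe u

open CategoryTheory CategoryTheory.Limits MonoidalCategory CartesianMonoidalCategory MonObj AlgebraicGeometry
open scoped CategoryTheory.Obj

namespace Groth.Agent.NeronSS

variable {S : Scheme.{u}}

/-- Kernels are stable under base change. -/
theorem isKernel_map {S' : Scheme.{u}} (g : S' ⟶ S) {N G H : Over S} [GrpObj H] {i : N ⟶ G} {u : G ⟶ H}
    (hker : AlgGrp.IsKernel i u) : AlgGrp.IsKernel ((Over.pullback g).map i) ((Over.pullback g).map u) := by
  let F := Over.pullback g
  let e := Functor.Monoidal.εIso F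
  refine (hker.map F).of_iso (Iso.refl _) (Iso.refl _) e.symm (Iso.refl _) (by simp [F])
    (toUnit_unique _ _) (by simp [F]) ?_
  change F.map η[H] ≫ 𝟙 _ = e.inv ≫ Functor.LaxMonoidal.ε F ≫ F.map η[H]
  rw [Category.comp_id, ← Category.assoc]
  refine ((congrArg (fun t => t ≫ F.map η[H]) (?_ : e.inv ≫ Functor.LaxMonoidal.ε F = 𝟙 _)).trans
    (Category.id_comp _)).symm
  exact e.inv_hom_id

/-- A property of a composite with a monomorphism passes to the first factor. -/
theorem of_comp_mono (P : MorphismProperty Scheme.{u}) [P.IsStableUnderBaseChange] {X Y Z : Scheme.{u}}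
    (f : X ⟶ Y) (j : Y ⟶ Z) [Mono j] (h : P (f ≫ j)) : P f := by
  have sq : IsPullback (𝟙 X) f (f ≫ j) j := IsPullback.mk' (Category.id_comp _)
    (fun T a b e _ => by simpa using e)
    (fun T a b e => ⟨a, Category.comp_id _, (cancel_mono j).1 (by rw [Category.assoc, e])⟩)
  exact MorphismProperty.of_isPullback sq h

/-- Base change only sees an open containing the image of the first projection. -/
theorem of_range_subset (P : MorphismProperty Scheme.{u}) [P.IsStableUnderBaseChange] {X Y T : Scheme.{u}}
    (f : X ⟶ Y) (c : T ⟶ Y) (O : X.Opens) (hO : Set.range (pullback.fst f c) ⊆ O) (h : P (O.ι ≫ f)) :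
    P (pullback.snd f c) := by
  have hO' : Set.range (pullback.fst f c) ⊆ Set.range O.ι := by rwa [Scheme.Opens.range_ι]
  let l := IsOpenImmersion.lift O.ι (pullback.fst f c) hO'
  have hl : l ≫ O.ι = pullback.fst f c := IsOpenImmersion.lift_fac _ _ _
  have sq : IsPullback l (pullback.snd f c) (O.ι ≫ f) c :=
    IsPullback.mk' (by rw [← Category.assoc, hl, pullback.condition])
      (fun W a b e₁ e₂ => pullback.hom_ext (by rw [← hl, ← Category.assoc, ← Category.assoc, e₁]) e₂)
      (fun W a b e => ⟨pullback.lift (a ≫ O.ι) b (by rw [Category.assoc]; exact e), by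
        rw [← cancel_mono O.ι, Category.assoc, hl, pullback.lift_fst], pullback.lift_snd _ _ _⟩)
  exact MorphismProperty.of_isPullback sq h

variable {G H : Over S} [GrpObj G] [GrpObj H] (u : G ⟶ H) [IsMonHom u]

/-- The dimension of the fibres of a flat group scheme is unchanged by specialisation. -/
theorem dim_fib_eq (G : Over S) [GrpObj G] [Flat G.hom] [LocallyOfFinitePresentation G.hom] {s t : S} (hts : t ⤳ s) :
    topologicalKrullDim ↥(GrpField.fib G t).left = topologicalKrullDim ↥(GrpField.fib G s).left := by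
  have hlc := GrpDim.isLocallyConstant_dim G
  have e : ∀ x : S, topologicalKrullDim ↥(GrpField.fib G x).left = topologicalKrullDim ↥(G.hom ⁻¹' {x}) := fun x =>
    IsHomeomorph.topologicalKrullDim_eq _ (G.hom.fiberHomeo x).isHomeomorph
  rw [e, e]
  exact hts.mem_open
    (hlc.isOpen_fiber (topologicalKrullDim ↥(G.hom ⁻¹' {s}))) rfl

/-- A homomorphism to a smooth group is flat at a specialisation where it is quasi-finite of a point where it is
an isogeny. -/
theorem flat_fibHom [Flat G.hom] [LocallyOfFinitePresentation G.hom] [QuasiCompact G.hom] [Smooth H.hom]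
    [QuasiSeparated H.hom] {s t : S} (hts : t ⤳ s) (hiso : SGA7.IsIsogenyOver (GrpField.fibHom u t))
    (hs : LocallyQuasiFinite (GrpField.fibHom u s).left) : Flat (GrpField.fibHom u s).left := by
  have hinst : ∀ x : S, LocallyOfFiniteType (GrpField.fib G x).hom ∧ LocallyOfFiniteType (GrpField.fib H x).hom ∧
      QuasiCompact (GrpField.fibHom u x).left ∧ IsReduced (GrpField.fib H x).left := by
    intro x
    haveI : LocallyOfFiniteType (GrpField.fib G x).hom :=
      inferInstanceAs (LocallyOfFiniteType (pullback.snd G.hom _))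
    haveI : QuasiCompact (GrpField.fib G x).hom := inferInstanceAs (QuasiCompact (pullback.snd G.hom _))
    haveI : Smooth (GrpField.fib H x).hom := inferInstanceAs (Smooth (pullback.snd H.hom _))
    haveI : QuasiSeparated (GrpField.fib H x).hom := inferInstanceAs (QuasiSeparated (pullback.snd H.hom _))
    haveI : QuasiCompact ((GrpField.fibHom u x).left ≫ (GrpField.fib H x).hom) := by
      rw [Over.w]; infer_instance
    exact ⟨inferInstance, inferInstance, QuasiCompact.of_comp _ (GrpField.fib H x).hom,
      SmoothRed.isReduced_of_smooth_scheme (GrpField.fib H x).hom⟩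
  have hdim : topologicalKrullDim ↥(GrpField.fib G t).left = topologicalKrullDim ↥(GrpField.fib H t).left := by
    obtain ⟨_, _, _, _⟩ := hinst t
    haveI := hiso.1
    obtain ⟨N, hN, i, hi, -, hsq, -⟩ := AgIsog.exists_kernel u
    have hk := isKernel_map (S.fromSpecResidueField t) (IsPullback.of_map (Over.forget _) (by ext1; exact hsq.w) hsq :
      AlgGrp.IsKernel i u)
    haveI := hiso.2 _ _ hk
    haveI : LocallyOfFiniteType ((GrpField.fibHom u t).left ≫ (GrpField.fib H t).hom) := by
      rw [Over.w]; infer_instance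
    haveI : LocallyOfFiniteType (GrpField.fibHom u t).left := locallyOfFiniteType_of_comp _ (GrpField.fib H t).hom
    haveI : LocallyQuasiFinite (GrpField.fibHom u t).left :=
      (UnitUnram.lqf_iff_kernel (GrpField.fibHom u t) _ hk).2 inferInstance
    exact dim_eq_of_isogeny (GrpField.fibHom u t)
  rw [dim_fib_eq G hts, dim_fib_eq H hts] at hdim
  obtain ⟨_, _, _, _⟩ := hinst s
  obtain ⟨n, hn, -⟩ := GrpDim.exists_dim_le H s
  rw [← IsHomeomorph.topologicalKrullDim_eq _ (H.hom.fiberHomeo s).isHomeomorph] at hn
  exact flat_of_lqf_of_dim (GrpField.fibHom u s) n (hdim.ge.trans' (le_of_eq hn.symm)) hn.le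

/-- The locus of the base over which the homomorphism is flat and quasi-finite. -/
theorem exists_open_flat_lqf [Flat G.hom] [LocallyOfFinitePresentation G.hom] [LocallyOfFiniteType H.hom] {s : S}
    (hf : Flat (GrpField.fibHom u s).left) (hq : LocallyQuasiFinite (GrpField.fibHom u s).left) :
    ∃ U : S.Opens, s ∈ U ∧ ∀ x ∈ U, Flat (GrpField.fibHom u x).left ∧
      LocallyQuasiFinite (GrpField.fibHom u x).left := by
  haveI := GrpLoc.lfp_left u
  haveI : LocallyOfFiniteType (u.left ≫ H.hom) := by rw [Over.w]; infer_instance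
  haveI : LocallyOfFiniteType u.left := inferInstance
  have hG : ∀ x : S, LocallyOfFiniteType (GrpField.fib G x).hom := fun x =>
    inferInstanceAs (LocallyOfFiniteType (pullback.snd G.hom _))
  have h1 : IsOpen {x : G.left | (u.left.stalkMap x).hom.Flat} := (FibreFlat.flatOpen u.left).2
  refine ⟨⟨_, (GrpLoc.isOpen_of_eq_preimage h1 (GrpLoc.flat_locus u)).inter
    (GrpLoc.isOpen_of_eq_preimage (GrpLoc.isOpen_nhdLocus u @LocallyQuasiFinite) (GrpLoc.lqf_locus u hG))⟩,
    ⟨hf, hq⟩, fun x hx => hx⟩

/-- Over an open where the fibres are flat, the homomorphism is flat. -/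
theorem flat_restrict [Flat G.hom] [LocallyOfFinitePresentation G.hom] [LocallyOfFiniteType H.hom] (U : S.Opens)
    (h : ∀ x ∈ U, Flat (GrpField.fibHom u x).left) :
    Flat ((G.hom ⁻¹ᵁ U).ι ≫ u.left) ∧ Flat ((Over.pullback U.ι).map u).left := by
  haveI := GrpLoc.lfp_left u
  have hW : G.hom ⁻¹ᵁ U ≤ FibreFlat.flatOpen u.left := fun x hx => GrpLoc.flatAt_of_fibHom u (h _ hx)
  haveI := FibreFlat.flat_flatOpen u.left
  have hfl : Flat ((G.hom ⁻¹ᵁ U).ι ≫ u.left) := by
    rw [← Scheme.homOfLE_ι G.left hW, Category.assoc]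
    infer_instance
  refine ⟨hfl, ?_⟩
  let φ := ((Over.pullback U.ι).map u).left
  refine of_comp_mono @Flat φ (pullback.fst H.hom U.ι) ?_
  have e : φ ≫ pullback.fst H.hom U.ι = pullback.fst G.hom U.ι ≫ u.left := pullback.lift_fst _ _ _
  have hr : Set.range (pullback.fst G.hom U.ι) ⊆ Set.range (G.hom ⁻¹ᵁ U).ι := by
    rw [Scheme.Pullback.range_fst, Scheme.Opens.range_ι, Scheme.Opens.range_ι]
    exact subset_rfl
  rw [e, ← IsOpenImmersion.lift_fac (G.hom ⁻¹ᵁ U).ι _ hr, Category.assoc]
  haveI : IsOpenImmersion (IsOpenImmersion.lift (G.hom ⁻¹ᵁ U).ι _ hr ≫ (G.hom ⁻¹ᵁ U).ι) := by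
    rw [IsOpenImmersion.lift_fac]; infer_instance
  haveI : IsOpenImmersion (IsOpenImmersion.lift (G.hom ⁻¹ᵁ U).ι _ hr) := IsOpenImmersion.of_comp _ (G.hom ⁻¹ᵁ U).ι
  infer_instance

/-- Over an open where the fibres are quasi-finite, the homomorphism is quasi-finite. -/
theorem lqf_restrict [LocallyOfFinitePresentation G.hom] [QuasiCompact G.hom] [LocallyOfFiniteType H.hom]
    [QuasiSeparated H.hom] (U : S.Opens) (h : ∀ x ∈ U, LocallyQuasiFinite (GrpField.fibHom u x).left) :
    LocallyQuasiFinite ((Over.pullback U.ι).map u).left := by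
  haveI : LocallyOfFiniteType (u.left ≫ H.hom) := by rw [Over.w]; infer_instance
  haveI : LocallyOfFiniteType u.left := locallyOfFiniteType_of_comp _ H.hom
  haveI : QuasiCompact (u.left ≫ H.hom) := by rw [Over.w]; infer_instance
  haveI : QuasiCompact u.left := QuasiCompact.of_comp _ H.hom
  let φ := (Over.pullback U.ι).map u
  have sq : IsPullback (pullback.fst G.hom U.ι) φ.left u.left (pullback.fst H.hom U.ι) := by
    refine IsPullback.of_bot ?_ (pullback.lift_fst _ _ _).symm (IsPullback.of_hasPullback H.hom U.ι)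
    rw [show φ.left ≫ pullback.snd H.hom U.ι = pullback.snd G.hom U.ι from pullback.lift_snd _ _ _, Over.w u]
    exact IsPullback.of_hasPullback G.hom U.ι
  haveI : LocallyOfFiniteType φ.left := MorphismProperty.of_isPullback sq ‹_›
  haveI : QuasiCompact φ.left := MorphismProperty.of_isPullback sq ‹_›
  refine .of_finite_preimage_singleton _ fun b => ?_
  let y := pullback.fst H.hom U.ι b
  have hyU : H.hom y ∈ U := by
    have : y ∈ Set.range (pullback.fst H.hom U.ι) := ⟨b, rfl⟩
    rw [Scheme.Pullback.range_fst, Scheme.Opens.range_ι] at this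
    exact this
  haveI := h _ hyU
  let g := S.fromSpecResidueField (H.hom y)
  obtain ⟨w, hw⟩ : y ∈ Set.range (pullback.fst H.hom g) := by
    rw [Scheme.Pullback.range_fst, Scheme.range_fromSpecResidueField]
    exact rfl
  haveI : QuasiCompact (GrpField.fibHom u (H.hom y)).left :=
    MorphismProperty.of_isPullback (GrpField.isPullback_fibHom u _) ‹_›
  have hfin : (u.left ⁻¹' {y}).Finite := by
    refine ((((GrpField.fibHom u (H.hom y)).left).finite_preimage_singleton w).image
      (pullback.fst G.hom g)).subset fun a ha => ?_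
    obtain ⟨q, hq1, hq2⟩ := Scheme.Pullback.exists_preimage_pullback (f := u.left) (g := pullback.fst H.hom g) a w
      ((show u.left a = y from ha).trans hw.symm)
    let sq' := GrpField.isPullback_fibHom u (H.hom y)
    refine ⟨sq'.isoPullback.inv q, ?_, ?_⟩
    · show (GrpField.fibHom u (H.hom y)).left _ = w
      refine (Scheme.Hom.comp_apply sq'.isoPullback.inv _ q).symm.trans ?_
      rw [sq'.isoPullback_inv_snd]
      exact hq2
    · refine (Scheme.Hom.comp_apply sq'.isoPullback.inv _ q).symm.trans ?_
      rw [sq'.isoPullback_inv_fst]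
      exact hq1
  refine (hfin.preimage (pullback.fst G.hom U.ι).isOpenEmbedding.injective.injOn).subset fun a ha => ?_
  show u.left (pullback.fst G.hom U.ι a) = y
  rw [← Scheme.Hom.comp_apply, sq.w, Scheme.Hom.comp_apply]
  exact congrArg _ ha

/-- **Injectivity passes to a specialisation where the homomorphism is flat.** -/
theorem mono_fibHom [Flat G.hom] [LocallyOfFinitePresentation G.hom] [IsSeparated G.hom] [LocallyOfFiniteType H.hom]
    {s t : S} (hts : t ⤳ s) [Mono (GrpField.fibHom u t)] {U : S.Opens} (hsU : s ∈ U)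
    (hU : ∀ x ∈ U, Flat (GrpField.fibHom u x).left) : Mono (GrpField.fibHom u s) := by
  obtain ⟨N, hN, i, hi, hmono, hsq, -⟩ := AgIsog.exists_kernel u
  haveI := hi; haveI := hmono
  have hker : AlgGrp.IsKernel i u := IsPullback.of_map (Over.forget _) (by ext1; exact hsq.w) hsq
  obtain ⟨hflU, -⟩ := flat_restrict u U hU
  let O : N.left.Opens := i.left ⁻¹ᵁ (G.hom ⁻¹ᵁ U)
  have hflN : Flat (O.ι ≫ N.hom) :=
    MorphismProperty.of_isPullback ((isPullback_morphismRestrict i.left _).paste_vert hsq) hflU
  let gt := S.fromSpecResidueField t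
  let gs := S.fromSpecResidueField s
  let pt : ↥(Spec (S.residueField t)) := IsLocalRing.closedPoint (S.residueField t)
  have hgt : gt pt = t := Scheme.fromSpecResidueField_apply _ _
  obtain ⟨B, c, hc, hBc⟩ := ValLib.exists_valuation_of_specializes (L := S.residueField t) gt (hgt.symm ▸ hts)
  let gB : Spec (S.residueField t) ⟶ Spec (CommRingCat.of B) :=
    Spec.map (CommRingCat.ofHom (algebraMap B (S.residueField t)))
  let NB := pullback N.hom c
  haveI hflB : Flat (pullback.snd N.hom c) := by
    refine of_range_subset @Flat N.hom c O ?_ hflN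
    rintro _ ⟨z, rfl⟩
    show G.hom (i.left _) ∈ U
    rw [← Scheme.Hom.comp_apply i.left, Over.w i, ← Scheme.Hom.comp_apply, pullback.condition, Scheme.Hom.comp_apply]
    exact ((IsLocalRing.specializes_closedPoint (R := B) _).map c.continuous).mem_open U.2 (hc.symm ▸ hsU)
  haveI : IsSeparated N.hom := by
    haveI : Mono i.left := Over.mono_left_of_mono i
    rw [← Over.w i]
    infer_instance
  let σ : Spec (CommRingCat.of B) ⟶ NB :=
    pullback.lift (c ≫ η[N].left) (𝟙 _) (by
      rw [Category.assoc, Over.w η[N], Category.id_comp]; exact Category.comp_id _)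
  haveI : IsClosedImmersion σ := by
    haveI : IsClosedImmersion (σ ≫ pullback.snd N.hom c) := by
      rw [show σ ≫ pullback.snd N.hom c = 𝟙 _ from pullback.lift_snd _ _ _]; infer_instance
    exact IsClosedImmersion.of_comp σ (pullback.snd N.hom c)
  haveI : IsDominant gB := ⟨(PrimeSpectrum.denseRange_comap_iff_ker_le_nilRadical _).2
    (((RingHom.injective_iff_ker_eq_bot _).1 (IsFractionRing.injective B (S.residueField t))).trans_le bot_le)⟩
  haveI : IsReduced (Spec (CommRingCat.of B)) := inferInstance
  haveI : IsSchemeTheoreticallyDominant gB := .of_isDominant gB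
  let q : pullback (pullback.snd N.hom c) gB ⟶ NB := pullback.fst _ _
  haveI : IsSchemeTheoreticallyDominant q := by
    haveI : QuasiCompact gB := inferInstance
    infer_instance
  have hq : (pullback.snd (pullback.snd N.hom c) gB ≫ gB) ≫ σ = q := by
    let F := Over.pullback gt
    have hi1 : F.map i = 1 := by
      rw [← cancel_mono (GrpField.fibHom u t), MonObj.one_comp]
      show F.map i ≫ F.map u = 1
      rw [(isKernel_map gt hker).w]
      exact Hom.one_def.symm
    let y : pullback (pullback.snd N.hom c) gB ⟶ pullback N.hom gt :=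
      pullback.lift (q ≫ pullback.fst N.hom c) (pullback.snd _ _) (by
        rw [Category.assoc, pullback.condition, ← Category.assoc, pullback.condition, Category.assoc, hBc])
    refine pullback.hom_ext ?_ ?_
    · have hi2 : pullback.fst N.hom gt ≫ i.left = (pullback.snd N.hom gt ≫ gt) ≫ η[G].left := by
        have h := congrArg (fun φ : F.obj N ⟶ F.obj G => φ.left ≫ pullback.fst G.hom gt) hi1
        have e1 : (F.map i).left ≫ pullback.fst G.hom gt = pullback.fst N.hom gt ≫ i.left := pullback.lift_fst _ _ _
        rw [← e1]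
        refine h.trans ?_
        have e2 : (1 : F.obj N ⟶ F.obj G) = F.map (toUnit N ≫ η[G]) := by
          rw [← Hom.one_def]
          exact (map_one F.homMonoidHom).symm
        rw [e2]
        show (F.map (toUnit N ≫ η[G])).left ≫ pullback.fst G.hom gt = _
        rw [show (F.map (toUnit N ≫ η[G])).left ≫ pullback.fst G.hom gt =
          pullback.fst N.hom gt ≫ (toUnit N ≫ η[G]).left from pullback.lift_fst _ _ _, Over.comp_left,
          Over.toUnit_left, ← Category.assoc, pullback.condition]
      haveI : Mono i.left := Over.mono_left_of_mono i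
      rw [← cancel_mono i.left]
      have h3 := congrArg (y ≫ ·) hi2
      simp only [y, pullback.lift_fst_assoc, pullback.lift_snd_assoc, Category.assoc] at h3
      have hiη : η[N].left ≫ i.left = η[G].left := by rw [← Over.comp_left, IsMonHom.one_hom]
      simp only [σ, Category.assoc, pullback.lift_fst_assoc, hiη]
      rw [h3]
      simp only [← Category.assoc]
      rw [Category.assoc _ gB c, hBc]
    · simp only [σ, Category.assoc, pullback.lift_snd, Category.comp_id, q]
      exact pullback.condition.symm
  haveI : IsIso σ := NeronGen.isIso_of_factors σ q _ hq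
  haveI : IsIso (pullback.snd N.hom c) := by
    have : σ ≫ pullback.snd N.hom c = 𝟙 _ := pullback.lift_snd _ _ _
    rw [(IsIso.inv_eq_of_hom_inv_id this).symm]
    infer_instance
  -- restrict to the closed point and descend
  let k' := IsLocalRing.ResidueField B
  let qB : Spec (CommRingCat.of k') ⟶ Spec (CommRingCat.of B) := Spec.map (CommRingCat.ofHom (IsLocalRing.residue B))
  have hqB : (qB ≫ c) (IsLocalRing.closedPoint k') = s := by
    rw [Scheme.Hom.comp_apply]
    exact (congrArg c (IsLocalRing.comap_closedPoint (IsLocalRing.residue B))).trans hc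
  obtain ⟨h, hh⟩ : ∃ h : Spec (CommRingCat.of k') ⟶ Spec (S.residueField s), h ≫ gs = qB ≫ c := by
    subst hqB
    exact ⟨_, Scheme.descResidueField_stalkClosedPointTo_fromSpecResidueField k' S (qB ≫ c)⟩
  haveI : Surjective h := ⟨fun x => ⟨IsLocalRing.closedPoint _, Subsingleton.elim (α := PrimeSpectrum _) _ _⟩⟩
  haveI : Flat h := AlgSpLib.flat_of_field (K := S.residueField s) h
  haveI : IsIso (pullback.snd N.hom gs) := by
    have h1 : IsIso (pullback.snd (pullback.snd N.hom gs) h) := by
      have h2 : IsIso (pullback.snd N.hom (h ≫ gs)) := by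
        rw [hh]
        rw [show pullback.snd N.hom (qB ≫ c) =
          (pullbackLeftPullbackSndIso N.hom c qB).inv ≫ pullback.snd (pullback.snd N.hom c) qB by simp]
        infer_instance
      rw [show pullback.snd (pullback.snd N.hom gs) h =
        (pullbackLeftPullbackSndIso N.hom gs h).hom ≫ pullback.snd N.hom (h ≫ gs) by simp]
      infer_instance
    exact MorphismProperty.of_pullback_snd_of_descendsAlong (P := MorphismProperty.isomorphisms Scheme)
      (Q := @Surjective ⊓ @Flat ⊓ @QuasiCompact) (f := pullback.snd N.hom gs) (g := h)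
      ⟨⟨inferInstance, inferInstance⟩, inferInstance⟩ h1
  haveI : IsIso ((Over.forget _).map (toUnit (GrpField.fib N s))) := by
    show IsIso (toUnit (GrpField.fib N s)).left
    rw [Over.toUnit_left]
    exact ‹IsIso (pullback.snd N.hom gs)›
  haveI : IsIso (toUnit (GrpField.fib N s)) := isIso_of_reflects_iso _ (Over.forget _)
  refine ⟨fun {T} x y hxy => mul_inv_eq_one.1 ?_⟩
  have hz : (x * y⁻¹) ≫ GrpField.fibHom u s = toUnit T ≫ η := by
    rw [MonObj.mul_comp, GrpObj.inv_comp, hxy, mul_inv_cancel, Hom.one_def]
  let hk := isKernel_map gs hker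
  have h4 : hk.lift (x * y⁻¹) (toUnit T) hz ≫ (Over.pullback gs).map i = x * y⁻¹ := hk.lift_fst _ _ _
  have h5 : hk.lift (x * y⁻¹) (toUnit T) hz = 1 := by
    rw [← cancel_mono (toUnit (GrpField.fib N s))]
    exact toUnit_unique _ _
  rw [← h4, h5, MonObj.one_comp]


/-- Injectivity of points over a point where the fibre is a monomorphism. -/
theorem eq_of_mono_fibHom {K : Type u} [Field K] (a : Spec (CommRingCat.of K) ⟶ S)
    [Mono (GrpField.fibHom u (a (IsLocalRing.closedPoint K)))] (y y' : Over.mk a ⟶ G) (h : y ≫ u = y' ≫ u) :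
    y = y' := by
  let x := a (IsLocalRing.closedPoint K)
  let g := S.fromSpecResidueField x
  let ρ := S.descResidueField (Scheme.stalkClosedPointTo a)
  have hρ : Spec.map ρ ≫ g = a := Scheme.descResidueField_stalkClosedPointTo_fromSpecResidueField K S a
  let T : Over (Spec (S.residueField x)) := Over.mk (Spec.map ρ)
  let e : (Over.map g).obj T ≅ Over.mk a := Over.isoMk (Iso.refl _) ((Category.id_comp _).trans hρ.symm)
  have h' : ((Over.mapPullbackAdj g).homEquiv T G (e.hom ≫ y)) ≫ GrpField.fibHom u x =
      ((Over.mapPullbackAdj g).homEquiv T G (e.hom ≫ y')) ≫ GrpField.fibHom u x := by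
    show _ ≫ (Over.pullback g).map u = _ ≫ (Over.pullback g).map u
    rw [← (Over.mapPullbackAdj g).homEquiv_naturality_right, ← (Over.mapPullbackAdj g).homEquiv_naturality_right,
      Category.assoc, Category.assoc, h]
  exact (cancel_epi e.hom).1 (((Over.mapPullbackAdj g).homEquiv T G).injective
    ((cancel_mono (GrpField.fibHom u x)).1 h'))

/-- A homomorphism which is fibrewise an open immersion over an open of the base is one there. -/
theorem isOpenImmersion_restrict [Flat G.hom] [LocallyOfFinitePresentation G.hom] [LocallyOfFiniteType H.hom]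
    (U : S.Opens) (hU : ∀ x ∈ U, IsOpenImmersion (GrpField.fibHom u x).left ∧ Mono (GrpField.fibHom u x)) :
    IsOpenImmersion ((Over.pullback U.ι).map u).left := by
  haveI := GrpLoc.lfp_left u
  let φ := ((Over.pullback U.ι).map u).left
  let W := G.hom ⁻¹ᵁ U
  haveI : Etale (W.ι ≫ u.left) := by
    have hex : ∀ a : W, ∃ V : G.left.Opens, a.1 ∈ V ∧ Etale (V.ι ≫ u.left) := fun a => by
      haveI := (hU _ a.2).1
      exact (Set.ext_iff.1 (GrpLoc.etale_locus u) a.1).2 (inferInstance : Etale (GrpField.fibHom u (G.hom a.1)).left)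
    choose V hxV hV using hex
    refine IsZariskiLocalAtSource.of_iSup_eq_top (fun a => W.ι ⁻¹ᵁ V a)
      (top_le_iff.1 fun a _ => TopologicalSpace.Opens.mem_iSup.2 ⟨a, hxV a⟩) fun a => ?_
    rw [← Category.assoc, ← morphismRestrict_ι, Category.assoc]
    exact IsZariskiLocalAtSource.comp (hV a) _
  have hr : Set.range (pullback.fst G.hom U.ι) ⊆ Set.range W.ι := by
    rw [Scheme.Pullback.range_fst, Scheme.Opens.range_ι, Scheme.Opens.range_ι]
    exact subset_rfl
  have e : φ ≫ pullback.fst H.hom U.ι = pullback.fst G.hom U.ι ≫ u.left := pullback.lift_fst _ _ _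
  haveI : Etale φ := by
    refine of_comp_mono @Etale φ (pullback.fst H.hom U.ι) ?_
    rw [e, ← IsOpenImmersion.lift_fac W.ι _ hr, Category.assoc]
    haveI : IsOpenImmersion (IsOpenImmersion.lift W.ι _ hr ≫ W.ι) := by
      rw [IsOpenImmersion.lift_fac]; infer_instance
    haveI : IsOpenImmersion (IsOpenImmersion.lift W.ι _ hr) := IsOpenImmersion.of_comp _ W.ι
    infer_instance
  haveI : UniversallyInjective φ := by
    rw [((tfae_universallyInjective φ).out 0 1 :)]
    intro K _ g₁ g₂ h
    let a := g₁ ≫ pullback.fst G.hom U.ι ≫ G.hom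
    have hsnd : g₁ ≫ pullback.snd G.hom U.ι = g₂ ≫ pullback.snd G.hom U.ι := by
      rw [← show φ ≫ pullback.snd H.hom U.ι = pullback.snd G.hom U.ι from pullback.lift_snd _ _ _,
        ← Category.assoc, ← Category.assoc]
      exact congrArg (· ≫ pullback.snd H.hom U.ι) h
    have hx : a (IsLocalRing.closedPoint K) ∈ U := by
      show (g₁ ≫ pullback.fst G.hom U.ι ≫ G.hom) _ ∈ U
      rw [pullback.condition, ← Category.assoc, Scheme.Hom.comp_apply]
      exact (((g₁ ≫ pullback.snd G.hom U.ι) (IsLocalRing.closedPoint K))).2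
    haveI := (hU _ hx).2
    let y : Over.mk a ⟶ G := Over.homMk (g₁ ≫ pullback.fst G.hom U.ι) (Category.assoc _ _ _)
    let y' : Over.mk a ⟶ G := Over.homMk (g₂ ≫ pullback.fst G.hom U.ι) (by
      show (g₂ ≫ pullback.fst G.hom U.ι) ≫ G.hom = g₁ ≫ pullback.fst G.hom U.ι ≫ G.hom
      rw [Category.assoc, pullback.condition, ← Category.assoc, ← hsnd, Category.assoc])
    have hy : y ≫ u = y' ≫ u := by
      ext1
      show (g₁ ≫ pullback.fst G.hom U.ι) ≫ u.left = (g₂ ≫ pullback.fst G.hom U.ι) ≫ u.left
      rw [Category.assoc, Category.assoc, ← e, ← Category.assoc, ← Category.assoc]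
      exact congrArg (· ≫ pullback.fst H.hom U.ι) h
    exact pullback.hom_ext (congrArg (fun t : Over.mk a ⟶ G => t.left) (eq_of_mono_fibHom u a y y' hy)) hsnd
  exact EtaleSections.isOpenImmersion_of_etale_universallyInjective φ

/-- An injective flat homomorphism of algebraic groups is an open immersion. -/
theorem isOpenImmersion_fibHom [LocallyOfFinitePresentation G.hom] [LocallyOfFiniteType H.hom] {s : S}
    [Mono (GrpField.fibHom u s)] [Flat (GrpField.fibHom u s).left] :
    IsOpenImmersion (GrpField.fibHom u s).left := by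
  haveI := GrpLoc.lfp_left u
  haveI : LocallyOfFinitePresentation (GrpField.fibHom u s).left :=
    MorphismProperty.of_isPullback (GrpField.isPullback_fibHom u s) ‹_›
  haveI : Mono (GrpField.fibHom u s).left := Over.mono_left_of_mono _
  exact IsOpenImmersion.of_flat_of_mono _


end Groth.Agent.NeronSS
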