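import Groth.Agent.AutFinOrd.NoGa
import Groth.Agent.AutFinOrd.Setting
import Groth.Agent.Chev.TorsionFinite
import Groth.Agent.Chev.SADesc
import Groth.Agent.Chev.Main
import Groth.Agent.RedR1.GaSpace
import Groth.Agent.EtaleSections.Basic
import Groth.Agent.GrpField.Range
import Groth.Agent.GrpField.SurjSmooth
import Groth.Agent.S4070
import Groth.Prelude.Def_SGA7IX

/-!
# Groups without additive subgroups stay so after extension of the base
-/

set_option autoImplicit false
set_option backward.isDefEq.respectTransparency false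
set_option backward.isDefEq.respectTransparency.types false
set_option linter.style.haveILetI false
set_option maxHeartbeats 1000000
set_option synthInstance.maxHeartbeats 400000
universe u

open CategoryTheory CategoryTheory.Limits MonoidalCategory CartesianMonoidalCategory MonObj AlgebraicGeometry
open scoped CategoryTheory.Obj
open Groth.Agent.BGaNotS (gaPt gaFn_gaPt gaPt_ext gaFn_mul gaFn_one)

namespace Groth.Agent.NeronSS

variable {k : Type u} [Field k]

/-- `𝔾_a` has no torsion prime to the characteristic. -/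
theorem eq_one_of_pow_ga {l : ℕ} (hl : (l : k) ≠ 0) {Y : Over (Spec (CommRingCat.of k))}
    (h : Y ⟶ Red.Ga (Spec (CommRingCat.of k))) (hh : h ^ l = 1) : h = 1 := by
  have hpow : ∀ n : ℕ, Red.gaFn (h ^ n) = n • Red.gaFn h := by
    intro n
    induction n with
    | zero => rw [pow_zero, gaFn_one, zero_smul]
    | succ n ih => rw [pow_succ, gaFn_mul, ih, succ_nsmul]
  have h0 := hpow l
  rw [hh, gaFn_one] at h0
  refine gaPt_ext ?_
  rw [gaFn_one]
  have hu : IsUnit ((l : ℕ) : Γ(Y.left, ⊤)) := by
    let ρ := (Scheme.ΓSpecIso (CommRingCat.of k)).inv ≫ Y.hom.appTop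
    rw [← map_natCast ρ.hom]
    exact (isUnit_iff_ne_zero.2 hl).map ρ.hom
  rw [nsmul_eq_mul] at h0
  exact (hu.mul_right_eq_zero).1 h0.symm

/-- `𝔾_a` is not finite. -/
theorem not_isFinite_ga [IsAlgClosed k] : ¬ IsFinite (Red.Ga (Spec (CommRingCat.of k))).hom := by
  intro hfin
  haveI := hfin
  haveI := RedR1.smooth_ga k
  let X := Red.Ga (Spec (CommRingCat.of k))
  haveI : Finite X.left := by
    have h : (X.hom ⁻¹' {IsLocalRing.closedPoint k}).Finite := X.hom.finite_preimage_singleton _
    refine Set.finite_univ_iff.1 (h.subset fun z _ => ?_)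
    exact Subsingleton.elim (α := PrimeSpectrum k) _ _
  haveI : Infinite k := inferInstance
  let f : k → X.left := fun c =>
    (gaPt (W := 𝟙_ (Over (Spec (CommRingCat.of k)))) ((Scheme.ΓSpecIso (CommRingCat.of k)).inv c)).left
      (IsLocalRing.closedPoint k)
  haveI := Finite.of_injective f fun a b hab => by
    let pa := gaPt (W := 𝟙_ (Over (Spec (CommRingCat.of k)))) ((Scheme.ΓSpecIso (CommRingCat.of k)).inv a)
    let pb := gaPt (W := 𝟙_ (Over (Spec (CommRingCat.of k)))) ((Scheme.ΓSpecIso (CommRingCat.of k)).inv b)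
    have h1 : pa = pb :=
      Over.OverMorphism.ext (ext_of_apply_closedPoint_eq X.hom (Over.w pa) (Over.w pb) hab)
    have h2 := congrArg Red.gaFn h1
    rw [gaFn_gaPt, gaFn_gaPt] at h2
    exact (Scheme.ΓSpecIso (CommRingCat.of k)).commRingCatIsoToRingEquiv.symm.injective h2
  exact not_finite k

/-- A semi-abelian variety has no additive subgroup. -/
theorem noGaSub_of_isSA [IsAlgClosed k] {G : Over (Spec (CommRingCat.of k))} [GrpObj G] [IsCommMonObj G]
    [Smooth G.hom] [QuasiCompact G.hom] [ConnectedSpace G.left] (h : Chev.IsSA G) : AutFinOrd.NoGaSub G := by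
  intro j hj hjc
  haveI := hj; haveI := hjc
  obtain ⟨l, hl1, hl⟩ : ∃ l : ℕ, 1 < l ∧ (l : k) ≠ 0 := by
    by_cases h2 : ((2 : ℕ) : k) = 0
    · refine ⟨3, by norm_num, fun h3 => one_ne_zero (α := k) ?_⟩
      have : ((3 : ℕ) : k) - ((2 : ℕ) : k) = 1 := by norm_num
      rw [← this, h2, h3, sub_zero]
    · exact ⟨2, by norm_num, h2⟩
  exact not_isFinite_ga (Chev.isFinite_of_torsion_trivial (h.bc _) j hl1 fun Y h hh => eq_one_of_pow_ga hl h hh)

/-- A morphism from a connected scheme to a group through a point of an open subgroup lands in it. -/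
theorem range_subset_of_open_subgroup {X G C : Over (Spec (CommRingCat.of k))} [GrpObj G] [GrpObj C]
    [ConnectedSpace X.left] (f : X ⟶ G) (c : C ⟶ G) [IsMonHom c] [IsOpenImmersion c.left] [QuasiCompact c.left]
    [LocallyOfFinitePresentation c.left] (x : X.left) (hx : f.left x ∈ Set.range c.left) :
    Set.range f.left ⊆ Set.range c.left := by
  haveI : Nonempty ↥(Spec (CommRingCat.of k)) := ⟨IsLocalRing.closedPoint k⟩
  have hcl : IsClopen (f.left ⁻¹' Set.range c.left) :=
    ⟨(GrpField.isClosed_range c).preimage f.left.continuous,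
      c.left.isOpenEmbedding.isOpen_range.preimage f.left.continuous⟩
  rintro _ ⟨y, rfl⟩
  exact (hcl.eq_univ ⟨x, hx⟩).ge (Set.mem_univ y)

/-- Absence of additive subgroups is stable under extension of algebraically closed fields. -/
theorem noGaSub_bc [IsAlgClosed k] {L : Type u} [Field L] [IsAlgClosed L]
    (w : Spec (CommRingCat.of L) ⟶ Spec (CommRingCat.of k)) {X : Over (Spec (CommRingCat.of k))} [GrpObj X]
    [IsCommMonObj X] [Smooth X.hom] [QuasiCompact X.hom] (h : AutFinOrd.NoGaSub X) :
    AutFinOrd.NoGaSub (Red.bc w X) := by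
  obtain ⟨C, hC, c, hcm, hcc, hCs, hCi, hcr⟩ := Chev.exists_component X
  haveI := hcm; haveI := hcc; haveI := hCs; haveI := hCi
  haveI : QuasiCompact C.hom := by rw [← Over.w c]; infer_instance
  haveI : Mono c := GrpField.SchImg.mono_of_isClosedImmersion c
  haveI : IsCommMonObj C := ⟨by
    rw [show μ[C] = fst C C * snd C C from Eq.symm (by rw [Hom.mul_def, lift_fst_snd, Category.id_comp]),
      MonObj.comp_mul, braiding_hom_fst, braiding_hom_snd, ← cancel_mono c, MonObj.mul_comp, MonObj.mul_comp]
    exact mul_comm _ _⟩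
  have hSA : Chev.IsSA C := AutFinOrd.isSA_of_noGa fun j hj hjc =>
    h (j ≫ c) inferInstance (inferInstanceAs (IsClosedImmersion (j.left ≫ c.left)))
  let F := Over.pullback w
  haveI : Smooth (F.obj C).hom := inferInstanceAs (Smooth (pullback.snd C.hom w))
  haveI : QuasiCompact (F.obj C).hom := inferInstanceAs (QuasiCompact (pullback.snd C.hom w))
  haveI : ConnectedSpace (F.obj C).left := AutFinOrd.connectedSpace_bc w C
  haveI : IsCommMonObj (F.obj C) := inferInstanceAs (IsCommMonObj ((Over.pullback w).obj C))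
  have hno : AutFinOrd.NoGaSub (F.obj C) := noGaSub_of_isSA (hSA.bc w)
  haveI : IsClosedImmersion (F.map c).left := MorphismProperty.baseChange_map (P := @IsClosedImmersion) w c hcc
  haveI : IsLocallyNoetherian X.left := LocallyOfFiniteType.isLocallyNoetherian X.hom
  haveI : LocallyOfFinitePresentation c.left := LocallyOfFinitePresentation.iff_locallyOfFiniteType.2 inferInstance
  haveI hco : IsOpenImmersion c.left := by
    haveI : Flat c.left := by
      haveI : IsReduced X.left := Chev.isReduced_of_smooth X
      refine GrpField.flat_of_flat_stalkMap c (x := η[C].left (IsLocalRing.closedPoint k)) ?_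
      haveI : IsNoetherian X.left := by
        haveI : CompactSpace X.left := QuasiCompact.compactSpace_of_compactSpace X.hom
        exact {}
      obtain ⟨U, hU, hfl, -⟩ := GenFree.exists_dense_flat_fp c.left
      obtain ⟨y, hyU, z, rfl⟩ := hU.exists_mem_open
        (hcr ▸ (S4070.finite_open_components ↥X.left).2 _ : IsOpen (Set.range c.left)) (Set.range_nonempty _)
      haveI := hfl
      haveI : Flat c.left := GrpField.flat_of_flat_stalkMap c (GrpField.flat_stalkMap_of_restrict c.left U hyU)
      exact Flat.stalkMap c.left _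
    exact IsOpenImmersion.of_flat_of_mono c.left
  haveI : IsOpenImmersion (F.map c).left := MorphismProperty.baseChange_map (P := @IsOpenImmersion) w c hco
  haveI : LocallyOfFinitePresentation (F.map c).left :=
    MorphismProperty.baseChange_map (P := @LocallyOfFinitePresentation) w c inferInstance
  intro j hj hjc
  haveI := hj; haveI := hjc
  haveI := RedR1.connectedSpace_ga L
  haveI := RedR1.smooth_ga L
  haveI : IsReduced (Red.Ga (Spec (CommRingCat.of L))).left := Chev.isReduced_of_smooth _
  let pt : ↥(Spec (CommRingCat.of L)) := IsLocalRing.closedPoint L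
  have hsub := range_subset_of_open_subgroup j (F.map c) (η[Red.Ga (Spec (CommRingCat.of L))].left pt) (by
    rw [← Scheme.Hom.comp_apply, ← Over.comp_left, IsMonHom.one_hom, ← IsMonHom.one_hom (f := F.map c),
      Over.comp_left, Scheme.Hom.comp_apply]
    exact ⟨_, rfl⟩)
  obtain ⟨j', hj'⟩ := Chev.exists_lift_of_range j (F.map c) hsub
  haveI : Mono (F.map c) := GrpField.SchImg.mono_of_isClosedImmersion (F.map c)
  haveI : IsMonHom (j' ≫ F.map c) := by rw [hj']; exact hj
  haveI : IsMonHom j' := Chev.isMonHom_of_comp j' (F.map c)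
  haveI : IsClosedImmersion (j'.left ≫ (F.map c).left) := by
    rw [← Over.comp_left, hj']; exact hjc
  exact hno j' inferInstance (IsClosedImmersion.of_comp j'.left (F.map c).left)

/-- Absence of additive subgroups transfers along a change of factorisation of the base change. -/
theorem noGaSub_of_factor {S S' : Scheme.{u}} (g' : Spec (CommRingCat.of k) ⟶ S')
    {T : Scheme.{u}} (f : S' ⟶ S) (w : Spec (CommRingCat.of k) ⟶ T) (g₀ : T ⟶ S) (hw : w ≫ g₀ = g' ≫ f)
    (G : Over S) [GrpObj G] (hno : AutFinOrd.NoGaSub (Red.bc w (Red.bc g₀ G))) :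
    AutFinOrd.NoGaSub (Red.bc g' (Red.bc f G)) := by
  intro j hj hjc
  haveI := hj
  let b := (MTBridge.bcComp f g' G).symm ≪≫ MTBridge.bcCongr hw.symm G ≪≫ MTBridge.bcComp g₀ w G
  haveI : IsMonHom b.hom.hom.hom := b.hom.hom.isMonHom_hom
  haveI : IsIso b.hom.hom.hom := inferInstanceAs (IsIso ((Grp.forget _).map b.hom))
  haveI : IsIso b.hom.hom.hom.left := inferInstanceAs (IsIso ((Over.forget _).map b.hom.hom.hom))
  exact hno (j ≫ b.hom.hom.hom) inferInstance
    (by haveI := hjc; exact inferInstanceAs (IsClosedImmersion (j.left ≫ b.hom.hom.hom.left)))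

open SGA7 in
/-- Fibrewise absence of additive subgroups is stable under base change. -/
theorem fibresUnipotentRankZero_bc {S S' : Scheme.{u}} (f : S' ⟶ S) (G : Over S) [GrpObj G] [IsCommMonObj G]
    [Smooth G.hom] [QuasiCompact G.hom] (hG : FibresUnipotentRankZero G) :
    FibresUnipotentRankZero (Red.bc f G) := by
  intro s'
  let s := f s'
  let Ω := AlgebraicClosure (S.residueField s)
  let Ω' := AlgebraicClosure (S'.residueField s')
  let ψ : S.residueField s →+* Ω' :=
    (algebraMap (S'.residueField s') Ω').comp (f.residueFieldMap s').hom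
  letI : Algebra (S.residueField s) Ω' := ψ.toAlgebra
  let e : Ω →ₐ[S.residueField s] Ω' := IsAlgClosed.lift
  let w : Spec (CommRingCat.of Ω') ⟶ Spec (CommRingCat.of Ω) := Spec.map (CommRingCat.ofHom e.toRingHom)
  have hw : w ≫ Red.geomPt s = Red.geomPt s' ≫ f := by
    show Spec.map _ ≫ Spec.map _ ≫ _ = (Spec.map _ ≫ _) ≫ f
    rw [← Category.assoc, ← Spec.map_comp, ← CommRingCat.ofHom_comp,
      show e.toRingHom.comp (algebraMap (S.residueField s) Ω) = ψ from e.comp_algebraMap, Category.assoc,
      ← Scheme.Hom.SpecMap_residueFieldMap_fromSpecResidueField, ← Category.assoc, ← Spec.map_comp]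
    simp only [ψ]
    rw [CommRingCat.ofHom_comp]
    rfl
  let X := Red.geomFibre s G
  haveI : Smooth X.hom := inferInstanceAs (Smooth (pullback.snd G.hom (Red.geomPt s)))
  haveI : QuasiCompact X.hom := inferInstanceAs (QuasiCompact (pullback.snd G.hom (Red.geomPt s)))
  haveI : IsCommMonObj X := inferInstanceAs (IsCommMonObj ((Over.pullback (Red.geomPt s)).obj G))
  have hno : AutFinOrd.NoGaSub (Red.bc w X) := noGaSub_bc w (hG s)
  exact noGaSub_of_factor (Red.geomPt s') f w (Red.geomPt s) hw G hno

end Groth.Agent.NeronSS
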