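import Groth.Agent.NeronSS.Main
import Groth.Agent.NeronSS.NoGaStable
import Groth.Prelude.Def_SGA7IX

/-!
# Homomorphisms of groups without additive subgroups which are isomorphisms generically
-/

set_option autoImplicit false
set_option backward.isDefEq.respectTransparency false
set_option backward.isDefEq.respectTransparency.types false
set_option linter.style.haveILetI false
set_option maxHeartbeats 1000000
set_option synthInstance.maxHeartbeats 400000
universe u

open CategoryTheory CategoryTheory.Limits MonoidalCategory CartesianMonoidalCategory MonObj AlgebraicGeometry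
open scoped CategoryTheory.Obj

namespace Groth.Agent.NeronSS

/-- Morphisms into a separated scheme agree if they agree over a schematically dense part of the base. -/
theorem ext_of_dominant {S T : Scheme.{u}} (g : T ⟶ S) [QuasiCompact g] [IsSchemeTheoreticallyDominant g]
    {X Y : Over S} [Flat X.hom] [IsSeparated Y.hom] (f f' : X ⟶ Y)
    (h : (Over.pullback g).map f = (Over.pullback g).map f') : f = f' := by
  let q := pullback.fst X.hom g
  have hq : q ≫ f.left = q ≫ f'.left := by
    have h' := congrArg (fun k => k.left ≫ pullback.fst Y.hom g) h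
    simp only [Over.pullback_map_left, pullback.lift_fst] at h'
    exact h'
  let c : X.left ⟶ pullback Y.hom Y.hom := pullback.lift f.left f'.left (by rw [Over.w, Over.w])
  let i := pullback.snd (pullback.diagonal Y.hom) c
  haveI : IsClosedImmersion i := MorphismProperty.pullback_snd (pullback.diagonal Y.hom) c inferInstance
  have hl : (q ≫ f.left) ≫ pullback.diagonal Y.hom = q ≫ c := by
    apply pullback.hom_ext
    · simp [c]
    · simp [c, hq]
  haveI : IsSchemeTheoreticallyDominant q := inferInstance
  haveI : IsIso i := NeronGen.isIso_of_factors i q (pullback.lift _ _ hl) (pullback.lift_snd _ _ _)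
  have hr : (inv i ≫ pullback.fst (pullback.diagonal Y.hom) c) ≫ pullback.diagonal Y.hom = c := by
    rw [Category.assoc, pullback.condition, IsIso.inv_hom_id_assoc]
  have ha := congrArg (· ≫ pullback.fst _ _) hr
  have hb := congrArg (· ≫ pullback.snd _ _) hr
  simp only [c, Category.assoc, pullback.diagonal_fst, pullback.diagonal_snd, Category.comp_id,
    pullback.lift_fst, pullback.lift_snd] at ha hb
  ext1
  exact ha.symm.trans hb

/-- A flat separated group which is commutative over a schematically dense part of the base is commutative. -/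
theorem isCommMonObj_of_dominant {S T : Scheme.{u}} (g : T ⟶ S) [QuasiCompact g] [IsSchemeTheoreticallyDominant g]
    (G : Over S) [GrpObj G] [Flat G.hom] [IsSeparated G.hom] [IsCommMonObj ((Over.pullback g).obj G)] :
    IsCommMonObj G := by
  haveI : Flat (G ⊗ G).hom := inferInstanceAs (Flat (pullback.fst G.hom G.hom ≫ G.hom))
  let F := Over.pullback g
  have hmul : ∀ a b : G ⊗ G ⟶ G, F.map (a * b) = F.map a * F.map b := fun a b => map_mul F.homMonoidHom a b
  refine ⟨?_⟩
  rw [show μ[G] = fst G G * snd G G from Eq.symm (by rw [Hom.mul_def, lift_fst_snd, Category.id_comp]),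
    MonObj.comp_mul, braiding_hom_fst, braiding_hom_snd]
  exact ext_of_dominant g _ _ (by rw [hmul, hmul]; exact mul_comm _ _)

/-- A morphism which is a homomorphism over a schematically dense part of the base is a homomorphism. -/
theorem isMonHom_of_dominant {S T : Scheme.{u}} (g : T ⟶ S) [QuasiCompact g] [IsSchemeTheoreticallyDominant g]
    {G H : Over S} [GrpObj G] [GrpObj H] [Flat G.hom] [IsSeparated H.hom] (u : G ⟶ H)
    [IsMonHom ((Over.pullback g).map u)] : IsMonHom u := by
  haveI : Flat (G ⊗ G).hom := inferInstanceAs (Flat (pullback.fst G.hom G.hom ≫ G.hom))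
  haveI : Flat (𝟙_ (Over S)).hom := inferInstanceAs (Flat (𝟙 S))
  let F := Over.pullback g
  have hmul : ∀ {X : Over S} (a b : X ⟶ G), F.map (a * b) = F.map a * F.map b :=
    fun a b => map_mul F.homMonoidHom a b
  have hmul' : ∀ {X : Over S} (a b : X ⟶ H), F.map (a * b) = F.map a * F.map b :=
    fun a b => map_mul F.homMonoidHom a b
  constructor
  · refine ext_of_dominant g _ _ ?_
    rw [show η[G] = (1 : 𝟙_ (Over S) ⟶ G) by rw [Hom.one_def, show toUnit (𝟙_ (Over S)) = 𝟙 _ from
      toUnit_unique _ _, Category.id_comp],
      show η[H] = (1 : 𝟙_ (Over S) ⟶ H) by rw [Hom.one_def, show toUnit (𝟙_ (Over S)) = 𝟙 _ from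
      toUnit_unique _ _, Category.id_comp], Functor.map_comp,
      show F.map (1 : 𝟙_ (Over S) ⟶ G) = 1 from map_one F.homMonoidHom,
      show F.map (1 : 𝟙_ (Over S) ⟶ H) = 1 from map_one F.homMonoidHom, MonObj.one_comp]
  · refine ext_of_dominant g _ _ ?_
    rw [show μ[G] = fst G G * snd G G from Eq.symm (by rw [Hom.mul_def, lift_fst_snd, Category.id_comp]),
      show (u ⊗ₘ u) ≫ μ[H] = (fst G G ≫ u) * (snd G G ≫ u) by
        rw [Hom.mul_def, lift_fst_comp_snd_comp],
      Functor.map_comp, hmul, MonObj.mul_comp, hmul', Functor.map_comp, Functor.map_comp]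

section Generic

variable {S : Scheme.{u}} {G H : Over S} [GrpObj G] [GrpObj H] (u : G ⟶ H) [IsMonHom u]

/-- An isomorphism of groups over a field is an isogeny. -/
theorem isIsogenyOver_of_isIso {S : Scheme.{u}} {G H : Over S} [GrpObj H] (v : G ⟶ H) [IsIso v] :
    SGA7.IsIsogenyOver v := by
  haveI : IsIso v.left := inferInstanceAs (IsIso ((Over.forget _).map v))
  refine ⟨inferInstance, fun N i hk => ?_⟩
  haveI : IsIso (toUnit N) := hk.isIso_snd_of_isIso
  haveI : IsIso (toUnit N).left := inferInstanceAs (IsIso ((Over.forget _).map (toUnit N)))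
  rw [← Over.toUnit_left]
  infer_instance

/-- **An isomorphism at a point which generises all others is an open immersion**, for a source without additive
subgroups in its geometric fibres. -/
theorem isOpenImmersion_of_generic [IsCommMonObj G] [Flat G.hom] [LocallyOfFinitePresentation G.hom]
    [IsSeparated G.hom] [QuasiCompact G.hom] [Smooth H.hom] [QuasiSeparated H.hom]
    (hG : SGA7.FibresUnipotentRankZero G) (t : S) (ht : ∀ s, t ⤳ s) [IsIso (GrpField.fibHom u t)] :
    IsOpenImmersion u.left := by
  have hiso : SGA7.IsIsogenyOver (GrpField.fibHom u t) := isIsogenyOver_of_isIso _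
  haveI : IsOpenImmersion ((Over.pullback (⊤ : S.Opens).ι).map u).left := by
    refine isOpenImmersion_restrict u ⊤ fun s _ => ?_
    have hq := lqf_fibHom u (ht s) (hG s) hiso.2
    haveI hf := flat_fibHom u (ht s) hiso hq
    obtain ⟨U, hsU, hU⟩ := exists_open_flat_lqf u hf hq
    haveI := mono_fibHom u (ht s) hsU (fun x hx => (hU x hx).1)
    exact ⟨isOpenImmersion_fibHom u, inferInstance⟩
  have e : ((Over.pullback (⊤ : S.Opens).ι).map u).left ≫ pullback.fst H.hom (⊤ : S.Opens).ι =
      pullback.fst G.hom (⊤ : S.Opens).ι ≫ u.left := pullback.lift_fst _ _ _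
  haveI : IsIso (⊤ : S.Opens).ι := inferInstanceAs (IsIso S.topIso.hom)
  rw [← IsIso.inv_hom_id_assoc (pullback.fst G.hom (⊤ : S.Opens).ι) u.left, ← e]
  infer_instance

end Generic

section Domain

variable (R K : Type u) [CommRing R] [IsDomain R] [Field K] [Algebra R K] [IsFractionRing R K]

/-- The generic point is schematically dense. -/
theorem schDom_genPt' :
    IsSchemeTheoreticallyDominant (Spec.map (CommRingCat.ofHom (algebraMap R K))) := by
  haveI : IsReduced (Spec (CommRingCat.of R)) := inferInstance
  haveI : IsDominant (Spec.map (CommRingCat.ofHom (algebraMap R K))) := by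
    constructor
    exact PrimeSpectrum.denseRange_comap_iff_ker_le_nilRadical _ |>.2
      (((RingHom.injective_iff_ker_eq_bot _).1 (IsFractionRing.injective R K)).trans_le bot_le)
  exact .of_isDominant _

instance quasiCompact_genPt' : QuasiCompact (Spec.map (CommRingCat.ofHom (algebraMap R K))) := inferInstance

/-- Morphisms which agree on generic fibres agree. -/
theorem genFib_ext {X Y : Over (Spec (CommRingCat.of R))} [Flat X.hom] [IsSeparated Y.hom] (f f' : X ⟶ Y)
    (h : (SGA7.genFib R K).map f = (SGA7.genFib R K).map f') : f = f' :=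
  haveI := schDom_genPt' R K
  ext_of_dominant _ f f' h

/-- A flat separated group with commutative generic fibre is commutative. -/
theorem isCommMonObj_of_genFib (G : Over (Spec (CommRingCat.of R))) [GrpObj G] [Flat G.hom] [IsSeparated G.hom]
    [IsCommMonObj ((SGA7.genFib R K).obj G)] : IsCommMonObj G :=
  haveI := schDom_genPt' R K
  isCommMonObj_of_dominant (Spec.map (CommRingCat.ofHom (algebraMap R K))) G

/-- A morphism which is a homomorphism on generic fibres is one. -/
theorem isMonHom_of_genFib {G H : Over (Spec (CommRingCat.of R))} [GrpObj G] [GrpObj H] [Flat G.hom]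
    [IsSeparated H.hom] (u : G ⟶ H) [IsMonHom ((SGA7.genFib R K).map u)] : IsMonHom u :=
  haveI := schDom_genPt' R K
  isMonHom_of_dominant (Spec.map (CommRingCat.ofHom (algebraMap R K))) u

/-- The generic point generises every point. -/
theorem genPoint_specializes (s : ↥(Spec (CommRingCat.of R))) :
    (Spec.map (CommRingCat.ofHom (algebraMap R K))) (IsLocalRing.closedPoint K) ⤳ s := by
  refine (PrimeSpectrum.le_iff_specializes _ _).1 ?_
  intro x hx
  have hx0 : algebraMap R K x = 0 := by
    have : algebraMap R K x ∈ IsLocalRing.maximalIdeal K := hx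
    rwa [IsLocalRing.maximalIdeal_eq_bot, Ideal.mem_bot] at this
  rw [show x = 0 from IsFractionRing.injective R K (by rw [hx0, map_zero])]
  exact s.asIdeal.zero_mem

/-- The fibre at the generic point is the generic fibre. -/
theorem exists_fromSpecResidueField_genPoint :
    ∃ h : Spec ((Spec (CommRingCat.of R)).residueField
        ((Spec.map (CommRingCat.ofHom (algebraMap R K))) (IsLocalRing.closedPoint K))) ⟶ Spec (CommRingCat.of K),
      IsIso h ∧ h ≫ Spec.map (CommRingCat.ofHom (algebraMap R K)) =
        (Spec (CommRingCat.of R)).fromSpecResidueField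
          ((Spec.map (CommRingCat.ofHom (algebraMap R K))) (IsLocalRing.closedPoint K)) := by
  let a := Spec.map (CommRingCat.ofHom (algebraMap R K))
  let S := Spec (CommRingCat.of R)
  let g := S.fromSpecResidueField (a (IsLocalRing.closedPoint K))
  let ρ := S.descResidueField (Scheme.stalkClosedPointTo a)
  have hρ : Spec.map ρ ≫ g = a := Scheme.descResidueField_stalkClosedPointTo_fromSpecResidueField K S a
  haveI : IsIso ρ := by
    refine (ConcreteCategory.isIso_iff_bijective ρ).2 ⟨ρ.hom.injective, fun x => ?_⟩
    have h1 : Spec.preimage g ≫ ρ = CommRingCat.ofHom (algebraMap R K) := by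
      apply Spec.map_injective
      rw [Spec.map_comp, Spec.map_preimage]
      exact hρ
    have h2 : ∀ r : R, ρ ((Spec.preimage g) r) = algebraMap R K r := fun r =>
      congrArg (fun f : CommRingCat.of R ⟶ CommRingCat.of K => f r) h1
    obtain ⟨p, q, _, rfl⟩ := IsFractionRing.div_surjective (A := R) x
    refine ⟨(Spec.preimage g) p / (Spec.preimage g) q, ?_⟩
    show ρ.hom _ = _
    rw [map_div₀]
    exact congrArg₂ (· / ·) (h2 p) (h2 q)
  exact ⟨inv (Spec.map ρ), inferInstance, by rw [IsIso.inv_comp_eq]; exact hρ.symm⟩

/-- An isomorphism on generic fibres gives one on the fibre at the generic point. -/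
theorem isIso_fibHom_genPoint {G H : Over (Spec (CommRingCat.of R))} (u : G ⟶ H)
    [IsIso ((SGA7.genFib R K).map u)] :
    IsIso (GrpField.fibHom u ((Spec.map (CommRingCat.ofHom (algebraMap R K))) (IsLocalRing.closedPoint K))) := by
  let a := Spec.map (CommRingCat.ofHom (algebraMap R K))
  obtain ⟨h, hh, hg⟩ := exists_fromSpecResidueField_genPoint R K
  show IsIso ((Over.pullback ((Spec (CommRingCat.of R)).fromSpecResidueField _)).map u)
  rw [← hg]
  haveI : IsIso ((Over.pullback a).map u) := ‹IsIso ((SGA7.genFib R K).map u)›
  exact (NatIso.isIso_map_iff (Over.pullbackComp h a) u).2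
    (inferInstanceAs (IsIso ((Over.pullback h).map ((Over.pullback a).map u))))

/-- Stable properties of the generic fibre hold for the fibre at the generic point. -/
theorem fib_genPoint_hom (P : MorphismProperty Scheme.{u}) [P.IsStableUnderBaseChange]
    (G : Over (Spec (CommRingCat.of R))) (hP : P ((SGA7.genFib R K).obj G).hom) :
    P (GrpField.fib G ((Spec.map (CommRingCat.ofHom (algebraMap R K))) (IsLocalRing.closedPoint K))).hom := by
  obtain ⟨h, hh, hg⟩ := exists_fromSpecResidueField_genPoint R K
  show P (pullback.snd G.hom _)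
  rw [← hg, ← pullbackLeftPullbackSndIso_inv_snd_snd, MorphismProperty.cancel_left_of_respectsIso P]
  exact MorphismProperty.pullback_snd _ _ hP

/-- **A homomorphism from a group without additive subgroups which is an isomorphism on generic fibres is an open
immersion.** -/
theorem isOpenImmersion_of_genFib {G H : Over (Spec (CommRingCat.of R))} [GrpObj G] [IsCommMonObj G] [GrpObj H]
    [Smooth G.hom] [IsSeparated G.hom] [QuasiCompact G.hom] [Smooth H.hom] [QuasiSeparated H.hom]
    (hG : SGA7.FibresUnipotentRankZero G) (u : G ⟶ H) [IsMonHom u] [IsIso ((SGA7.genFib R K).map u)] :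
    IsOpenImmersion u.left :=
  haveI := isIso_fibHom_genPoint R K u
  isOpenImmersion_of_generic u hG _ (genPoint_specializes R K)

/-- A group mapping isomorphically on generic fibres to a commutative one is commutative. -/
theorem isCommMonObj_of_isIso_genFib {G H : Over (Spec (CommRingCat.of R))} [GrpObj G] [GrpObj H]
    [Flat G.hom] [IsSeparated G.hom] (u : G ⟶ H) [IsMonHom u] [IsIso ((SGA7.genFib R K).map u)]
    [IsCommMonObj ((SGA7.genFib R K).obj H)] : IsCommMonObj G :=
  haveI : IsCommMonObj ((SGA7.genFib R K).obj G) := isCommMonObj_of_mono ((SGA7.genFib R K).map u)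
  isCommMonObj_of_genFib R K G

end Domain

/-- **The absence of additive subgroups passes to a group containing an open subgroup without them.** -/
theorem fibresUnipotentRankZero_of_open {S : Scheme.{u}} {G N : Over S} [GrpObj G] [GrpObj N] (u : G ⟶ N)
    [IsMonHom u] [IsOpenImmersion u.left] [QuasiCompact G.hom] [IsSeparated N.hom] [LocallyOfFiniteType N.hom]
    (hG : SGA7.FibresUnipotentRankZero G) : SGA7.FibresUnipotentRankZero N := by
  intro s j hj hjc
  haveI := hj; haveI := hjc
  let k := AlgebraicClosure (S.residueField s)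
  let F := Over.pullback (Red.geomPt s)
  haveI : QuasiCompact u.left := by
    haveI : QuasiCompact (u.left ≫ N.hom) := by rw [Over.w]; infer_instance
    exact QuasiCompact.of_comp _ N.hom
  haveI : IsOpenImmersion (F.map u).left :=
    MorphismProperty.baseChange_map (P := @IsOpenImmersion) (Red.geomPt s) u inferInstance
  haveI : QuasiCompact (F.map u).left :=
    MorphismProperty.baseChange_map (P := @QuasiCompact) (Red.geomPt s) u inferInstance
  haveI : LocallyOfFinitePresentation (F.map u).left := inferInstance
  haveI : IsSeparated (F.map u).left := inferInstance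
  haveI := RedR1.connectedSpace_ga k
  haveI := RedR1.smooth_ga k
  haveI : IsReduced (Red.Ga (Spec (CommRingCat.of k))).left := Chev.isReduced_of_smooth _
  let pt : ↥(Spec (CommRingCat.of k)) := IsLocalRing.closedPoint k
  have hsub := range_subset_of_open_subgroup j (F.map u) (η[Red.Ga (Spec (CommRingCat.of k))].left pt) (by
    rw [← Scheme.Hom.comp_apply, ← Over.comp_left, IsMonHom.one_hom, ← IsMonHom.one_hom (f := F.map u),
      Over.comp_left, Scheme.Hom.comp_apply]
    exact ⟨_, rfl⟩)
  let l : (Red.Ga (Spec (CommRingCat.of k))).left ⟶ (F.obj G).left := IsOpenImmersion.lift (F.map u).left j.left hsub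
  have hl : l ≫ (F.map u).left = j.left := IsOpenImmersion.lift_fac _ _ _
  let j' : Red.Ga (Spec (CommRingCat.of k)) ⟶ F.obj G := Over.homMk l (by
    rw [← Over.w (F.map u), ← Category.assoc, hl]
    exact Over.w j)
  have hj' : j' ≫ F.map u = j := by ext1; exact hl
  haveI : Mono (F.map u) := (Over.forget _).mono_of_mono_map (inferInstanceAs (Mono (F.map u).left))
  haveI : IsMonHom (j' ≫ F.map u) := by rw [hj']; exact hj
  haveI : IsMonHom j' := Chev.isMonHom_of_comp j' (F.map u)
  haveI : IsClosedImmersion (j'.left ≫ (F.map u).left) := by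
    rw [← Over.comp_left, hj']; exact hjc
  exact hG s j' inferInstance (IsClosedImmersion.of_comp j'.left (F.map u).left)

end Groth.Agent.NeronSS
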