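import Groth.Agent.FieldPow.Main
import Groth.Agent.GrpLoc.Locus
import Groth.Agent.GrpField.FibreHom
import Groth.Agent.EtaleSections.Basic
import Groth.Agent.UnramPt.Basic
import Groth.Agent.AutFinOrd.Setting
import Groth.Agent.AgIsog.Kernel
import Mathlib.LinearAlgebra.FreeModule.Finite.Matrix

/-!
# Generisation of torsion points in the kernel of a homomorphism
-/

set_option autoImplicit false
set_option backward.isDefEq.respectTransparency false
set_option backward.isDefEq.respectTransparency.types false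
set_option linter.style.haveILetI false
set_option maxHeartbeats 1000000
set_option synthInstance.maxHeartbeats 400000
universe u

open CategoryTheory CategoryTheory.Limits MonoidalCategory CartesianMonoidalCategory MonObj AlgebraicGeometry
open scoped CategoryTheory.Obj

namespace Groth.Agent.NeronSS

variable {S : Scheme.{u}}

/-- A field-valued point with image in the unit section is trivial. -/
theorem eq_one_of_mem_range {G : Over S} [GrpObj G] {L : Type u} [Field L] {a : Spec (CommRingCat.of L) ⟶ S}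
    (z : Over.mk a ⟶ G) (hz : z.left (IsLocalRing.closedPoint L) ∈ Set.range η[G].left) : z = 1 := by
  haveI : IsImmersion (η[G].left ≫ G.hom) := by rw [Over.w η[G]]; exact inferInstanceAs (IsImmersion (𝟙 S))
  haveI : IsImmersion η[G].left := IsImmersion.of_comp _ G.hom
  let p := pullback.fst z.left η[G].left
  haveI : IsImmersion p := inferInstance
  haveI : Surjective p := ⟨fun x => by
    have hx : x ∈ Set.range p := by
      rw [Scheme.Pullback.range_fst]
      rw [show x = IsLocalRing.closedPoint L from Subsingleton.elim (α := PrimeSpectrum L) _ _]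
      exact hz
    exact hx⟩
  haveI : IsClosedImmersion p := IsClosedImmersion.of_isPreimmersion _ (by
    rw [p.surjective.range_eq]; exact isClosed_univ)
  haveI : IsReduced (Over.mk a).left := inferInstanceAs (IsReduced (Spec (CommRingCat.of L)))
  haveI : IsIso p := isIso_of_isClosedImmersion_of_surjective p
  have h1 : (inv p ≫ pullback.snd z.left η[G].left) ≫ η[G].left = z.left := by
    rw [Category.assoc, ← pullback.condition, IsIso.inv_hom_id_assoc]
  have h2 : inv p ≫ pullback.snd z.left η[G].left = a := by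
    refine Eq.trans ?_ (Over.w z)
    conv_rhs => rw [← h1]
    simp only [Category.assoc]
    rw [Over.w η[G]]
    exact (congrArg (inv p ≫ ·) (Category.comp_id _)).symm
  ext1
  rw [← h1, h2, Hom.one_def, Over.comp_left, Over.toUnit_left]
  rfl

/-- Near a point of the base where the exponent is invertible, the unit section is open in the torsion. -/
theorem mem_range_section {H : Over S} [GrpObj H] [LocallyOfFiniteType H.hom] {s : S} {m : ℕ}
    (hm : (m : S.residueField s) ≠ 0) {Q : Over S} {j : Q ⟶ H}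
    (hQ : IsPullback j (toUnit Q) ((𝟙 H : H ⟶ H) ^ m) η[H]) (σ : 𝟙_ (Over S) ⟶ Q) (hσ : σ ≫ j = η[H])
    {q : Q.left} (hq : q ⤳ σ.left s) : q ∈ Set.range σ.left := by
  haveI : Mono η[H].left := SplitMono.mono ⟨H.hom, Over.w η[H]⟩
  let g := S.fromSpecResidueField s
  let F := Over.pullback g
  let Hs := F.obj H
  haveI : LocallyOfFiniteType Hs.hom := inferInstanceAs (LocallyOfFiniteType (pullback.snd H.hom g))
  have hn : ((m : ℤ) : S.residueField s) ≠ 0 := by exact_mod_cast hm
  obtain ⟨U, hU, het⟩ := Groth.Agent.FieldPow.exists_etale_nhd_unit Hs (n := (m : ℤ)) hn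
  rw [zpow_natCast, ← AutFinOrd.bc_pow] at het
  let Qs := F.obj Q
  let T := F.obj (𝟙_ (Over S))
  let e : 𝟙_ (Over (Spec (CommRingCat.of (S.residueField s)))) ≅ T := Functor.Monoidal.εIso F
  have hsq : IsPullback (F.map j).left (F.map (toUnit Q)).left
      (F.map ((𝟙 H : H ⟶ H) ^ m)).left (F.map η[H]).left :=
    (hQ.map F).map (Over.forget _)
  let U' : Qs.left.Opens := (F.map j).left ⁻¹ᵁ U
  haveI := het
  haveI : Etale (U'.ι ≫ (F.map (toUnit Q)).left) :=
    MorphismProperty.of_isPullback ((isPullback_morphismRestrict (F.map j).left U).paste_vert hsq) het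
  haveI : IsIso e.hom.left := inferInstanceAs (IsIso ((Over.forget _).map e.hom))
  haveI : IsIso T.hom := by
    have h : e.hom.left ≫ T.hom = 𝟙 _ := Over.w e.hom
    rw [show T.hom = inv e.hom.left from (IsIso.inv_eq_of_hom_inv_id h).symm]
    infer_instance
  haveI hfu : FormallyUnramified (U'.ι ≫ pullback.snd Q.hom g) := by
    have h1 : Etale ((U'.ι ≫ (F.map (toUnit Q)).left) ≫ T.hom) := inferInstance
    have h2 : (U'.ι ≫ (F.map (toUnit Q)).left) ≫ T.hom = U'.ι ≫ pullback.snd Q.hom g :=
      (Category.assoc _ _ _).trans (congrArg (U'.ι ≫ ·) (Over.w (F.map (toUnit Q))))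
    rw [h2] at h1
    haveI := h1
    infer_instance
  let pt : ↥(Spec (CommRingCat.of (S.residueField s))) := IsLocalRing.closedPoint (S.residueField s)
  let w := e.hom.left pt
  let x' : ↥(pullback Q.hom g) := (F.map σ).left w
  have hx' : x' ∈ U' := by
    show (F.map j).left ((F.map σ).left w) ∈ U
    rw [← Scheme.Hom.comp_apply, ← Over.comp_left, ← F.map_comp, hσ]
    have h1 := hU pt
    rw [show η[Hs] = e.hom ≫ F.map η[H] from rfl, Over.comp_left, Scheme.Hom.comp_apply] at h1
    exact h1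
  haveI : LocallyOfFiniteType Q.hom := by
    have : LocallyOfFiniteType ((toUnit Q).left) := by
      haveI : LocallyOfFiniteType ((𝟙 H : H ⟶ H) ^ m).left := by
        haveI : LocallyOfFiniteType (((𝟙 H : H ⟶ H) ^ m).left ≫ H.hom) := by rw [Over.w]; infer_instance
        exact locallyOfFiniteType_of_comp _ H.hom
      exact MorphismProperty.of_isPullback (hQ.map (Over.forget _)) ‹_›
    exact this
  obtain ⟨V, hxV, hV⟩ := UnramPt.exists_nhd_of_baseChange Q.hom g x' U' hx' hfu
  have hpt : pullback.fst Q.hom g x' = σ.left s := by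
    show ((F.map σ).left ≫ pullback.fst Q.hom g) w = _
    rw [show (F.map σ).left ≫ pullback.fst Q.hom g = pullback.fst _ g ≫ σ.left from pullback.lift_fst _ _ _,
      Scheme.Hom.comp_apply]
    congr 1
    have h2 : (pullback.fst (𝟙_ (Over S)).hom g) w = g (T.hom w) := by
      have := congrArg (fun φ : _ ⟶ S => φ w) (pullback.condition (f := (𝟙_ (Over S)).hom) (g := g))
      simp only [Scheme.Hom.comp_apply] at this
      exact this
    exact h2.trans (Scheme.fromSpecResidueField_apply _ _)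
  rw [hpt] at hxV
  let V' : Q.left.Opens := V ⊓ (Q.hom ⁻¹ᵁ (σ.left ⁻¹ᵁ V))
  have hσπ : σ.left ≫ Q.hom = 𝟙 S := Over.w σ
  have hπσ : ∀ x, Q.hom (σ.left x) = x := fun x => by rw [← Scheme.Hom.comp_apply, hσπ]; rfl
  have hV'σ : ∀ x, σ.left x ∈ V → σ.left x ∈ V' := fun x hx =>
    ⟨hx, show σ.left (Q.hom (σ.left x)) ∈ V by rw [hπσ]; exact hx⟩
  let π : (V' : Scheme.{u}) ⟶ S := V'.ι ≫ Q.hom
  haveI : FormallyUnramified π := by
    haveI := hV
    have e1 : π = Q.left.homOfLE (inf_le_left : V' ≤ V) ≫ (V.ι ≫ Q.hom) := by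
      rw [← Category.assoc, Scheme.homOfLE_ι]
    rw [e1]
    exact MorphismProperty.comp_mem _ _ _ inferInstance hV
  haveI : LocallyOfFiniteType π := inferInstance
  have hlift : Set.range (π ≫ σ.left) ⊆ Set.range V'.ι := by
    rintro _ ⟨y, rfl⟩
    rw [Scheme.Opens.range_ι, Scheme.Hom.comp_apply]
    exact hV'σ _ y.2.2
  let v := IsOpenImmersion.lift V'.ι (π ≫ σ.left) hlift
  have hv : v ≫ V'.ι = π ≫ σ.left := IsOpenImmersion.lift_fac _ _ _
  have hveq : 𝟙 _ ≫ π = v ≫ π := by
    rw [Category.id_comp]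
    show π = v ≫ V'.ι ≫ Q.hom
    rw [← Category.assoc, hv, Category.assoc, hσπ, Category.comp_id]
  let E := EtaleSections.eqLocus π (𝟙 _) v hveq
  have hmem : (⟨σ.left s, hV'σ s hxV⟩ : V') ∈ E := by
    have hS : Set.range ((σ.left ⁻¹ᵁ V).ι ≫ σ.left) ⊆ Set.range V'.ι := by
      rintro _ ⟨y, rfl⟩
      rw [Scheme.Opens.range_ι, Scheme.Hom.comp_apply]
      exact hV'σ _ y.2
    let σ' := IsOpenImmersion.lift V'.ι ((σ.left ⁻¹ᵁ V).ι ≫ σ.left) hS
    have hσ' : σ' ≫ 𝟙 _ = σ' ≫ v := by
      rw [Category.comp_id, ← cancel_mono V'.ι, Category.assoc, hv, IsOpenImmersion.lift_fac]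
      show _ = σ' ≫ (V'.ι ≫ Q.hom) ≫ σ.left
      rw [← Category.assoc σ' (V'.ι ≫ Q.hom), ← Category.assoc σ' V'.ι, IsOpenImmersion.lift_fac]
      simp only [Category.assoc]
      rw [← Category.assoc σ.left Q.hom, hσπ]
      exact (congrArg _ (Category.id_comp _)).symm
    have := EtaleSections.range_subset_eqLocus π (𝟙 _) v hveq σ' hσ'
      ⟨(⟨s, hxV⟩ : (σ.left ⁻¹ᵁ V : S.Opens)), rfl⟩
    have e : σ' (⟨s, hxV⟩ : (σ.left ⁻¹ᵁ V : S.Opens)) = ⟨σ.left s, hV'σ s hxV⟩ := by
      refine V'.ι.isOpenEmbedding.injective ?_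
      rw [← Scheme.Hom.comp_apply, IsOpenImmersion.lift_fac]
      rfl
    rwa [e] at this
  have hqV : q ∈ V' := hq.mem_open V'.2 (hV'σ s hxV)
  have hqE : (⟨q, hqV⟩ : V') ∈ E := by
    refine Specializes.mem_open ?_ (EtaleSections.isOpen_eqLocus π (𝟙 _) v hveq) hmem
    exact (subtype_specializes_iff _ _).2 hq
  have heq := EtaleSections.eq_of_range_subset_eqLocus π (𝟙 _) v hveq
    ((V' : Scheme.{u}).fromSpecResidueField ⟨q, hqV⟩) (by
      rw [Scheme.range_fromSpecResidueField]; exact Set.singleton_subset_iff.2 hqE)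
  have h3 := congrArg (fun φ => (φ ≫ V'.ι) (IsLocalRing.closedPoint _)) heq
  simp only [Category.comp_id, Category.assoc, Scheme.Hom.comp_apply, Scheme.fromSpecResidueField_apply] at h3
  rw [← Scheme.Hom.comp_apply v V'.ι, hv, Scheme.Hom.comp_apply] at h3
  exact ⟨π ⟨q, hqV⟩, h3.symm⟩


/-- **Generisation of torsion in a kernel.** -/
theorem exists_generization {G H : Over S} [GrpObj G] [IsCommMonObj G] [GrpObj H] [Flat G.hom]
    [LocallyOfFinitePresentation G.hom] [IsSeparated G.hom] [LocallyOfFiniteType H.hom]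
    (u : G ⟶ H) [IsMonHom u] {s t : S} (hts : t ⤳ s) {m n : ℕ} (hm : (m : S.residueField s) ≠ 0)
    {L : Type u} [Field L] (a : Spec (CommRingCat.of L) ⟶ S) (ha : a (IsLocalRing.closedPoint L) = s)
    (z : Over.mk a ⟶ G) (hz1 : z ^ m = 1) (hzu : z ≫ u = 1) (hzn : z ^ n ≠ 1) :
    ∃ (L' : Type u) (_ : Field L') (a' : Spec (CommRingCat.of L') ⟶ S), a' (IsLocalRing.closedPoint L') = t ∧
      ∃ z' : Over.mk a' ⟶ G, z' ^ m = 1 ∧ z' ≫ u = 1 ∧ z' ^ n ≠ 1 := by
  let pm : G ⟶ G := 𝟙 G ^ m
  have hpm : ∀ {T : Over S} (y : T ⟶ G), y ≫ pm = y ^ m := fun y => by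
    rw [MonObj.comp_pow, Category.comp_id]
  haveI : IsMonHom pm := by
    refine ⟨?_, ?_⟩
    · rw [hpm, show (η[G] : 𝟙_ _ ⟶ G) = 1 by rw [Hom.one_def, toUnit_unit, Category.id_comp], one_pow]
    · rw [show μ[G] = fst G G * snd G G by simp [Hom.mul_def], hpm, mul_pow, Hom.mul_def, Hom.mul_def,
        show fst G G ^ m = fst G G ≫ pm from (hpm _).symm, show snd G G ^ m = snd G G ≫ pm from (hpm _).symm]
      simp
  let P := pullback pm η[G]
  let i : P ⟶ G := pullback.fst pm η[G]
  have hP : IsPullback i (toUnit P) pm η[G] := by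
    rw [toUnit_unique (toUnit P) (pullback.snd pm η[G])]
    exact IsPullback.of_hasPullback _ _
  have hi : i ^ m = 1 := by
    rw [← hpm, hP.w]
    exact Hom.one_def.symm
  let w : Over.mk a ⟶ P := hP.lift z (toUnit _) (by rw [hpm, hz1, Hom.one_def])
  have hw : w ≫ i = z := hP.lift_fst _ _ _
  let pt : ↥(Spec (CommRingCat.of L)) := IsLocalRing.closedPoint L
  let ps : P.left := w.left pt
  have hps : P.hom ps = s := by
    rw [← ha, ← Scheme.Hom.comp_apply, Over.w w]
    rfl
  haveI : LocallyOfFiniteType G.hom := inferInstance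
  have hfl : (pm.left.stalkMap (i.left ps)).hom.Flat := by
    refine GrpLoc.flatAt_of_fibHom pm ?_
    have hs : G.hom (i.left ps) = s := by
      rw [← Scheme.Hom.comp_apply, Over.w i]
      exact hps
    rw [hs]
    let g := S.fromSpecResidueField s
    haveI : LocallyOfFiniteType (GrpField.fib G s).hom :=
      inferInstanceAs (LocallyOfFiniteType (pullback.snd G.hom g))
    have h := Groth.Agent.FieldPow.etale_pow (GrpField.fib G s) (n := (m : ℤ)) (by exact_mod_cast hm)
    rw [zpow_natCast, ← AutFinOrd.bc_pow] at h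
    haveI := h
    exact (inferInstance : Flat ((Over.pullback g).map pm).left)
  haveI : LocallyOfFinitePresentation pm.left := GrpLoc.lfp_left pm
  let U := FibreFlat.flatOpen pm.left
  have hsq : IsPullback i.left (toUnit P).left pm.left η[G].left := hP.map (Over.forget S)
  let W : P.left.Opens := i.left ⁻¹ᵁ U
  haveI : Flat (U.ι ≫ pm.left) := FibreFlat.flat_flatOpen _
  haveI : Flat (W.ι ≫ P.hom) :=
    MorphismProperty.of_isPullback ((isPullback_morphismRestrict i.left U).paste_vert hsq) ‹_›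
  have hpsW : ps ∈ W := hfl
  obtain ⟨p', hp', hp't⟩ := Flat.generalizingMap (W.ι ≫ P.hom) (a := (⟨ps, hpsW⟩ : W)) (show t ⤳ _ by
    rw [Scheme.Hom.comp_apply]
    exact hps.symm ▸ hts)
  let q := W.ι p'
  have hq : q ⤳ ps := hp'.map W.ι.continuous
  let a' : Spec (CommRingCat.of (P.left.residueField q)) ⟶ S := P.left.fromSpecResidueField q ≫ P.hom
  let y : Over.mk a' ⟶ P := Over.homMk (P.left.fromSpecResidueField q) rfl
  have hy : ∀ {Z : Over S} (f : P ⟶ Z),
      (y ≫ f).left (IsLocalRing.closedPoint (P.left.residueField q)) = f.left q := fun f => by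
    rw [Over.comp_left, Scheme.Hom.comp_apply]
    exact congrArg _ (Scheme.fromSpecResidueField_apply _ _)
  refine ⟨_, inferInstance, a', ?_, y ≫ i, ?_, ?_, fun h => hzn ?_⟩
  · show (P.left.fromSpecResidueField q ≫ P.hom) _ = t
    rw [Scheme.Hom.comp_apply, Scheme.fromSpecResidueField_apply, ← hp't, Scheme.Hom.comp_apply]
  · rw [← MonObj.comp_pow, hi, MonObj.comp_one]
  · refine eq_one_of_mem_range _ ?_
    rw [Category.assoc, hy]
    let Q := pullback ((𝟙 H : H ⟶ H) ^ m) η[H]
    let j : Q ⟶ H := pullback.fst _ _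
    have hQ : IsPullback j (toUnit Q) ((𝟙 H : H ⟶ H) ^ m) η[H] := by
      rw [toUnit_unique (toUnit Q) (pullback.snd _ η[H])]
      exact IsPullback.of_hasPullback _ _
    have hη : η[H] ≫ ((𝟙 H : H ⟶ H) ^ m) = 𝟙 _ ≫ η[H] := by
      rw [MonObj.comp_pow, Category.comp_id, Category.id_comp,
        show (η[H] : 𝟙_ _ ⟶ H) = 1 by rw [Hom.one_def, toUnit_unit, Category.id_comp], one_pow]
    let σ : 𝟙_ (Over S) ⟶ Q := hQ.lift η[H] (𝟙 _) hη
    have hσ : σ ≫ j = η[H] := hQ.lift_fst _ _ _
    let v : P ⟶ Q := hQ.lift (i ≫ u) (toUnit _) (by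
      rw [MonObj.comp_pow, Category.comp_id, ← MonObj.pow_comp, hi, MonObj.one_comp, Hom.one_def])
    have hv : v ≫ j = i ≫ u := hQ.lift_fst _ _ _
    have hwv : w ≫ v = toUnit _ ≫ σ := by
      refine hQ.hom_ext ?_ (toUnit_unique _ _)
      rw [Category.assoc, hv, Category.assoc, hσ, ← Category.assoc, hw, hzu, Hom.one_def]
    have h2 : v.left ps = σ.left s := by
      have h3 := congrArg (fun φ : Over.mk a ⟶ Q => φ.left pt) hwv
      simp only [Over.comp_left, Scheme.Hom.comp_apply] at h3
      refine h3.trans (congrArg σ.left ?_)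
      rw [Over.toUnit_left]
      exact ha
    obtain ⟨x, hx⟩ := mem_range_section hm hQ σ hσ (q := v.left q) (h2 ▸ hq.map v.left.continuous)
    refine ⟨x, ?_⟩
    rw [← hσ, ← hv, Over.comp_left, Scheme.Hom.comp_apply, hx, Over.comp_left, Scheme.Hom.comp_apply]
  · haveI : IsClosedImmersion η[G].left := by
      haveI : IsClosedImmersion (η[G].left ≫ G.hom) := by
        rw [Over.w η[G]]; exact inferInstanceAs (IsClosedImmersion (𝟙 S))
      exact IsClosedImmersion.of_comp _ G.hom
    rw [← MonObj.comp_pow] at h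
    have h1 : (i ^ n).left q ∈ Set.range η[G].left := by
      rw [← hy, h, Hom.one_def, Over.comp_left, Scheme.Hom.comp_apply]
      exact ⟨_, rfl⟩
    have h2 : (i ^ n).left ps ∈ Set.range η[G].left :=
      (hq.map (i ^ n).left.continuous).mem_closed η[G].left.isClosedEmbedding.isClosed_range h1
    refine eq_one_of_mem_range _ ?_
    rw [← hw, ← MonObj.comp_pow, Over.comp_left, Scheme.Hom.comp_apply]
    exact h2

/-- The torsion in a finite kernel is bounded. -/
theorem exists_bound {G H : Over S} [GrpObj G] [GrpObj H] (u : G ⟶ H) [IsMonHom u] (t : S)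
    (hfin : ∀ (N : Over (Spec (CommRingCat.of (S.residueField t)))) (j : N ⟶ GrpField.fib G t),
      AlgGrp.IsKernel j (GrpField.fibHom u t) → IsFinite N.hom) :
    ∃ d : ℕ, ∀ (L : Type u) [Field L] (a : Spec (CommRingCat.of L) ⟶ S),
      a (IsLocalRing.closedPoint L) = t → ∀ z : Over.mk a ⟶ G, z ≫ u = 1 →
        ∃ i : ℕ, 0 < i ∧ i ≤ d ∧ z ^ i = 1 := by
  obtain ⟨N, hN, i, hi, hmono, hsq, hmem⟩ := AgIsog.exists_kernel u
  have hker : AlgGrp.IsKernel i u := IsPullback.of_map (Over.forget _) (by ext1; exact hsq.w) hsq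
  let g := S.fromSpecResidueField t
  let F := Over.pullback g
  have hk : AlgGrp.IsKernel (F.map i) (F.map u) := by
    let e := Functor.Monoidal.εIso F
    refine (hker.map F).of_iso (Iso.refl _) (Iso.refl _) e.symm (Iso.refl _) (by simp)
      (toUnit_unique _ _) (by simp) ?_
    change F.map η[H] ≫ 𝟙 _ = e.inv ≫ Functor.LaxMonoidal.ε F ≫ F.map η[H]
    rw [Category.comp_id, ← Category.assoc]
    refine ((congrArg (fun t => t ≫ F.map η[H]) (?_ : e.inv ≫ Functor.LaxMonoidal.ε F = 𝟙 _)).trans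
      (Category.id_comp _)).symm
    exact e.inv_hom_id
  haveI : IsFinite (pullback.snd N.hom g) := hfin _ _ hk
  let X : Scheme.{u} := pullback N.hom g
  let f : X ⟶ Spec (S.residueField t) := pullback.snd N.hom g
  haveI : IsAffine X := isAffine_of_isAffineHom f
  obtain ⟨φ, hφ⟩ := Spec.map_surjective (X.isoSpec.inv ≫ f)
  let A := Γ(X, ⊤)
  algebraize [φ.hom]
  haveI : Module.Finite (S.residueField t) A := by
    have h : IsFinite (Spec.map φ) := by rw [hφ]; infer_instance
    exact (IsFinite.SpecMap_iff φ).1 h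
  refine ⟨Module.finrank (S.residueField t) A + 1, fun L _ a ha z hz => ?_⟩
  subst ha
  let pt : ↥(Spec (CommRingCat.of L)) := IsLocalRing.closedPoint L
  let ρ := S.descResidueField (Scheme.stalkClosedPointTo a)
  have hρ : Spec.map ρ ≫ g = a := Scheme.descResidueField_stalkClosedPointTo_fromSpecResidueField L S a
  letI : Algebra (S.residueField (a pt)) L := ρ.hom.toAlgebra
  obtain ⟨z', hz'⟩ := (hmem _ z).2 hz
  let lft : (Over.mk a ⟶ N) → (Spec (CommRingCat.of L) ⟶ X) := fun y =>
    pullback.lift y.left (Spec.map ρ) ((Over.w y).trans hρ.symm)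
  let ev : (Over.mk a ⟶ N) → (A →ₐ[S.residueField (a pt)] L) := fun y =>
    { toRingHom := (Spec.preimage (lft y ≫ X.isoSpec.hom)).hom
      commutes' := fun r => by
        have h : φ ≫ Spec.preimage (lft y ≫ X.isoSpec.hom) = ρ := by
          refine Spec.map_injective ?_
          rw [Spec.map_comp, Spec.map_preimage, hφ, Category.assoc, Iso.hom_inv_id_assoc]
          exact pullback.lift_snd _ _ _
        exact congrArg (fun ψ => ψ.hom r) h }
  have hev : Function.Injective ev := fun y y' h => by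
    have h1 : Spec.preimage (lft y ≫ X.isoSpec.hom) = Spec.preimage (lft y' ≫ X.isoSpec.hom) :=
      CommRingCat.hom_ext (congrArg AlgHom.toRingHom h)
    have h2 : lft y = lft y' := (cancel_mono X.isoSpec.hom).1 (by
      simpa only [Spec.map_preimage] using congrArg Spec.map h1)
    ext1
    have h3 := congrArg (fun t => t ≫ pullback.fst N.hom g) h2
    simpa only [lft, pullback.lift_fst] using h3
  let c := Module.finrank (S.residueField (a (IsLocalRing.closedPoint L))) A
  let pw : Fin (c + 2) → (A →ₐ[S.residueField (a pt)] L) := fun j => ev (z' ^ (j : ℕ))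
  haveI := Fintype.ofFinite (A →ₐ[S.residueField (a pt)] L)
  obtain ⟨x, y, hne, hxy⟩ := Fintype.exists_ne_map_eq_of_card_lt pw (by
    rw [Fintype.card_fin, ← Nat.card_eq_fintype_card]
    exact (card_algHom_le_finrank (S.residueField (a (IsLocalRing.closedPoint L))) A L).trans_lt (Nat.lt_succ_of_le (Nat.le_succ c)))
  wlog hlt : (x : ℕ) < y generalizing x y
  · exact this y x hne.symm hxy.symm (lt_of_le_of_ne (not_lt.1 hlt) fun h => hne (Fin.ext h.symm))
  refine ⟨y - x, by omega, (Nat.sub_le _ _).trans (Nat.lt_succ_iff.1 y.2), ?_⟩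
  rw [pow_sub _ hlt.le, ← hz', ← MonObj.pow_comp, ← MonObj.pow_comp, hev hxy, mul_inv_cancel]


end Groth.Agent.NeronSS
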