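import Groth.Agent.NeronSS.Open
import Groth.Agent.AVDeg.Pow
import Groth.Agent.FieldPow.Main
import Groth.Agent.GrpField.Isogeny
import Groth.Agent.GrpField.FibreHom

/-!
# The power maps of a group whose generic fibre is an abelian variety
-/

set_option autoImplicit false
set_option backward.isDefEq.respectTransparency false
set_option backward.isDefEq.respectTransparency.types false
set_option linter.style.haveILetI false
set_option linter.unusedSectionVars false
set_option maxHeartbeats 1000000
set_option synthInstance.maxHeartbeats 400000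
universe u

open CategoryTheory CategoryTheory.Limits MonoidalCategory CartesianMonoidalCategory MonObj AlgebraicGeometry
open scoped CategoryTheory.Obj
open Groth.Agent.BGaNotS (gaPt gaFn_gaPt gaPt_ext gaFn_mul gaFn_one)

namespace Groth.Agent.NeronSS

/-- Power maps of commutative groups are homomorphisms. -/
theorem isMonHom_id_pow {S : Scheme.{u}} (G : Over S) [GrpObj G] [IsCommMonObj G] (m : ℕ) :
    IsMonHom ((𝟙 G : G ⟶ G) ^ m) where
  one_hom := by
    rw [MonObj.comp_pow, Category.comp_id]
    rw [show η[G] = (1 : 𝟙_ (Over S) ⟶ G) by rw [Hom.one_def, show toUnit (𝟙_ (Over S)) = 𝟙 _ from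
      toUnit_unique _ _, Category.id_comp], one_pow]
  mul_hom := by
    have h : μ[G] = fst G G * snd G G := by simp [Hom.mul_def]
    have h2 : ((𝟙 G) ^ m ⊗ₘ (𝟙 G) ^ m) ≫ μ[G] = (fst G G ≫ (𝟙 G) ^ m) * (snd G G ≫ (𝟙 G) ^ m) := by
      rw [Hom.mul_def, lift_fst_comp_snd_comp]
    rw [h2, MonObj.comp_pow, MonObj.comp_pow, MonObj.comp_pow, Category.comp_id, Category.comp_id, Category.comp_id,
      h, mul_pow]

/-- Base change of a power map. -/
theorem map_id_pow {S T : Scheme.{u}} (g : T ⟶ S) (G : Over S) [GrpObj G] (m : ℕ) :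
    (Over.pullback g).map ((𝟙 G : G ⟶ G) ^ m) = (𝟙 ((Over.pullback g).obj G)) ^ m := by
  refine (map_pow (Over.pullback g).homMonoidHom (𝟙 G) m).trans ?_
  exact congrArg (fun f => f ^ m) ((Over.pullback g).map_id G)

variable {k : Type u} [Field k]

/-- The additive group has infinitely many points over an algebraically closed field. -/
theorem infinite_ga [IsAlgClosed k] : Infinite (Red.Ga (Spec (CommRingCat.of k))).left := by
  haveI := RedR1.smooth_ga k
  let X := Red.Ga (Spec (CommRingCat.of k))
  haveI : Infinite k := inferInstance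
  let f : k → X.left := fun c =>
    (gaPt (W := 𝟙_ (Over (Spec (CommRingCat.of k)))) ((Scheme.ΓSpecIso (CommRingCat.of k)).inv c)).left
      (IsLocalRing.closedPoint k)
  exact Infinite.of_injective f fun a b hab => by
    let pa := gaPt (W := 𝟙_ (Over (Spec (CommRingCat.of k)))) ((Scheme.ΓSpecIso (CommRingCat.of k)).inv a)
    let pb := gaPt (W := 𝟙_ (Over (Spec (CommRingCat.of k)))) ((Scheme.ΓSpecIso (CommRingCat.of k)).inv b)
    have h1 : pa = pb :=
      Over.OverMorphism.ext (ext_of_apply_closedPoint_eq X.hom (Over.w pa) (Over.w pb) hab)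
    have h2 := congrArg Red.gaFn h1
    rw [gaFn_gaPt, gaFn_gaPt] at h2
    exact (Scheme.ΓSpecIso (CommRingCat.of k)).commRingCatIsoToRingEquiv.symm.injective h2

/-- A flat power map by a multiple of the characteristic rules out additive subgroups. -/
theorem noGaSub_of_flat_pow [IsAlgClosed k] {G : Over (Spec (CommRingCat.of k))} [GrpObj G] [IsCommMonObj G]
    [Smooth G.hom] [QuasiCompact G.hom] [IsSeparated G.hom] {m : ℕ} (hm : (m : k) = 0)
    (hs : Flat ((𝟙 G : G ⟶ G) ^ m).left) : AutFinOrd.NoGaSub G := by
  intro j hj hjc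
  haveI := hj; haveI := hjc; haveI := hs
  let f := (𝟙 G : G ⟶ G) ^ m
  haveI : IsMonHom f := isMonHom_id_pow G m
  haveI : IsLocallyNoetherian G.left := LocallyOfFiniteType.isLocallyNoetherian G.hom
  haveI : CompactSpace G.left := QuasiCompact.compactSpace_of_compactSpace G.hom
  haveI : IsNoetherian G.left := {}
  haveI : JacobsonSpace G.left := LocallyOfFiniteType.jacobsonSpace G.hom
  haveI : Flat f.left := hs
  have he := GrpField.isClosed_unit (Y := G)
  have hK := GrpField.finite_fibre_of_flat f he fun z hz => by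
    apply WithBot.coe_injective
    rw [GrpField.coheight_eq_topologicalKrullDim G hz, GrpField.coheight_eq_topologicalKrullDim G he]
  have h1 : ((𝟙 (Red.Ga (Spec (CommRingCat.of k)))) ^ m) = 1 := by
    refine gaPt_ext ?_
    have hpow : ∀ n : ℕ, Red.gaFn ((𝟙 (Red.Ga (Spec (CommRingCat.of k)))) ^ n) =
        n • Red.gaFn (𝟙 (Red.Ga (Spec (CommRingCat.of k)))) := by
      intro n
      induction n with
      | zero => rw [pow_zero, gaFn_one, zero_smul]
      | succ n ih => rw [pow_succ, gaFn_mul, ih, succ_nsmul]
    rw [hpow, gaFn_one, nsmul_eq_mul]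
    let ρ := (Scheme.ΓSpecIso (CommRingCat.of k)).inv ≫ (Red.Ga (Spec (CommRingCat.of k))).hom.appTop
    rw [← map_natCast ρ.hom, hm, map_zero, zero_mul]
  have h2 : j ≫ f = 1 := by
    rw [MonObj.comp_pow, Category.comp_id,
      show j ^ m = ((𝟙 (Red.Ga (Spec (CommRingCat.of k)))) ^ m) ≫ j by rw [MonObj.pow_comp, Category.id_comp],
      h1, MonObj.one_comp]
  haveI := infinite_ga (k := k)
  refine (Set.infinite_range_of_injective j.left.isClosedEmbedding.injective) (hK.subset ?_)
  rintro _ ⟨z, rfl⟩
  show f.left (j.left z) = _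
  rw [← Scheme.Hom.comp_apply, ← Over.comp_left, h2, Hom.one_def, Over.comp_left, Scheme.Hom.comp_apply]
  exact congrArg _ (Subsingleton.elim (α := PrimeSpectrum k) _ _)

/-- A surjective power map by a multiple of the characteristic rules out additive subgroups. -/
theorem noGaSub_of_surjective_pow [IsAlgClosed k] {G : Over (Spec (CommRingCat.of k))} [GrpObj G] [IsCommMonObj G]
    [Smooth G.hom] [QuasiCompact G.hom] [IsSeparated G.hom] {m : ℕ} (hm : (m : k) = 0)
    (hs : Surjective ((𝟙 G : G ⟶ G) ^ m).left) : AutFinOrd.NoGaSub G := by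
  haveI := hs
  haveI : IsMonHom ((𝟙 G : G ⟶ G) ^ m) := isMonHom_id_pow G m
  haveI : IsReduced G.left := SmoothRed.isReduced_of_smooth_scheme G.hom
  haveI : QuasiCompact (((𝟙 G : G ⟶ G) ^ m).left ≫ G.hom) := by rw [Over.w]; infer_instance
  haveI : QuasiCompact ((𝟙 G : G ⟶ G) ^ m).left := QuasiCompact.of_comp _ G.hom
  exact noGaSub_of_flat_pow hm (GrpField.flat_of_surjective_reduced _)

/-- A proper algebraic group has no additive subgroup. -/
theorem noGaSub_of_isProper [IsAlgClosed k] {G : Over (Spec (CommRingCat.of k))} [GrpObj G] [IsProper G.hom] :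
    AutFinOrd.NoGaSub G := by
  intro j _ hjc
  haveI := hjc
  let X := Red.Ga (Spec (CommRingCat.of k))
  haveI : IsProper (j.left ≫ G.hom) := inferInstance
  haveI : IsProper X.hom := by rw [← Over.w j]; infer_instance
  haveI : IsAffineHom X.hom := by
    haveI : IsAffineHom Red.GaZ.{u}.hom := by
      show IsAffineHom (Spec.map _)
      infer_instance
    exact inferInstanceAs (IsAffineHom (Limits.pullback.snd Red.GaZ.hom _))
  exact not_isFinite_ga (k := k) (IsFinite.iff_isProper_and_isAffineHom.2 ⟨inferInstance, inferInstance⟩)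

/-- A flat homomorphism to a connected algebraic group is surjective. -/
theorem surjective_of_flat {G H : Over (Spec (CommRingCat.of k))} [GrpObj G] [GrpObj H] (f : G ⟶ H) [IsMonHom f]
    [LocallyOfFiniteType G.hom] [LocallyOfFiniteType H.hom] [QuasiCompact f.left] [Flat f.left]
    [ConnectedSpace H.left] : Surjective f.left := by
  haveI : IsLocallyNoetherian H.left := LocallyOfFiniteType.isLocallyNoetherian H.hom
  haveI : LocallyOfFiniteType (f.left ≫ H.hom) := by rw [Over.w]; infer_instance
  haveI : LocallyOfFiniteType f.left := locallyOfFiniteType_of_comp f.left H.hom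
  haveI : LocallyOfFinitePresentation f.left := LocallyOfFinitePresentation.iff_locallyOfFiniteType.2 inferInstance
  haveI : UniversallyOpen f.left := UniversallyOpen.of_flat _
  haveI : Nonempty ↥(Spec (CommRingCat.of k)) := ⟨IsLocalRing.closedPoint k⟩
  have h : IsClopen (Set.range f.left) := ⟨GrpField.isClosed_range f, f.left.isOpenMap.isOpen_range⟩
  exact ⟨Set.range_eq_univ.1 (h.eq_univ ⟨_, η[G].left (IsLocalRing.closedPoint k), rfl⟩)⟩

/-- A natural number vanishes in the residue field at a prime iff it lies in the prime. -/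
theorem natCast_residueField_eq_zero_iff {R : Type u} [CommRing R] (p : ↥(Spec (CommRingCat.of R))) (m : ℕ) :
    (m : (Spec (CommRingCat.of R)).residueField p) = 0 ↔ (m : R) ∈ p.asIdeal := by
  let g := (Spec (CommRingCat.of R)).fromSpecResidueField p
  have hp : (Spec.map (Spec.preimage g)) (IsLocalRing.closedPoint _) = p := by
    rw [Spec.map_preimage]
    exact Scheme.fromSpecResidueField_apply _ _
  conv_rhs => rw [← hp]
  show _ ↔ (Spec.preimage g).hom (m : R) ∈ IsLocalRing.maximalIdeal _
  rw [map_natCast, IsLocalRing.maximalIdeal_eq_bot, Ideal.mem_bot]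

section DVR

variable {R K : Type u} [CommRing R] [IsDomain R] [Field K] [Algebra R K] [IsFractionRing R K]
  {G : Over (Spec (CommRingCat.of R))} [GrpObj G] [IsCommMonObj G]
  [IsProper ((SGA7.genFib R K).obj G).hom] [GeometricallyIntegral ((SGA7.genFib R K).obj G).hom]

/-- The power map is an isogeny at the generic point. -/
theorem isogeny_genPoint {m : ℕ} (hm : m ≠ 0) :
    SGA7.IsIsogenyOver (GrpField.fibHom ((𝟙 G : G ⟶ G) ^ m)
      ((Spec.map (CommRingCat.ofHom (algebraMap R K))) (IsLocalRing.closedPoint K))) := by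
  let t := (Spec.map (CommRingCat.ofHom (algebraMap R K))) (IsLocalRing.closedPoint K)
  let F := GrpField.fib G t
  letI : GrpObj F := GrpField.fibGrp G t
  haveI : IsProper F.hom := fib_genPoint_hom R K @IsProper G ‹_›
  haveI : GeometricallyIntegral F.hom := fib_genPoint_hom R K @GeometricallyIntegral G ‹_›
  haveI : IsCommMonObj F := isCommMonObj_of_isProper_of_geometricallyIntegral F
  rw [show GrpField.fibHom ((𝟙 G : G ⟶ G) ^ m) t = (𝟙 F) ^ m from map_id_pow _ G m]
  haveI := AVDeg.isIntegral_av F
  haveI := AVDeg.isFinite_pow_id (A := F) hm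
  haveI := AVDeg.isMonHom_id_pow (A := F) m
  refine ⟨GrpField.surjective_of_isFinite _ rfl, fun N i hk => ?_⟩
  haveI : IsFinite (toUnit N).left :=
    MorphismProperty.of_isPullback (hk.map (Over.forget _)) (inferInstance : IsFinite ((𝟙 F) ^ m).left)
  rw [← Over.toUnit_left]
  infer_instance

end DVR

end Groth.Agent.NeronSS
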