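import Groth.Agent.AgIsog.Semisimple
import Groth.Agent.AVDeg.MinpolyPow

/-!
# Pseudo-inverses of homomorphisms of abelian varieties
-/

set_option autoImplicit false
set_option backward.isDefEq.respectTransparency false
set_option backward.isDefEq.respectTransparency.types false
set_option linter.style.haveILetI false
set_option maxHeartbeats 1000000
set_option synthInstance.maxHeartbeats 400000
universe u

open CategoryTheory CategoryTheory.Limits MonoidalCategory CartesianMonoidalCategory MonObj AlgebraicGeometry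
open scoped CategoryTheory.Obj

namespace Groth.Agent.NeronSS

/-- Elements of semisimple rings are regular. -/
theorem exists_regular {A : Type*} [Ring A] [IsSemisimpleRing A] (x : A) : ∃ y : A, x * y * x = x := by
  obtain ⟨J, hJ⟩ := exists_isCompl (Submodule.span A ({x} : Set A))
  obtain ⟨a, ha, b, hb, hab⟩ := Submodule.mem_sup.1 (show (1 : A) ∈ Submodule.span A ({x} : Set A) ⊔ J by
    rw [hJ.sup_eq_top]; exact Submodule.mem_top)
  obtain ⟨y, rfl⟩ := Submodule.mem_span_singleton.1 ha
  refine ⟨y, ?_⟩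
  have h1 : x * b = 0 := by
    refine (Submodule.disjoint_def.1 hJ.disjoint) _ ?_ (J.smul_mem x hb)
    have : x * b = x - x * (y • x) := by
      rw [eq_sub_iff_add_eq, ← mul_add, add_comm, hab, _root_.mul_one]
    rw [this]
    exact sub_mem (Submodule.mem_span_singleton_self x)
      (Submodule.smul_mem _ x (Submodule.smul_mem _ y (Submodule.mem_span_singleton_self x)))
  calc x * y * x = x * (y • x + b) := by rw [mul_add, h1, add_zero, smul_eq_mul, _root_.mul_assoc]
    _ = x := by rw [hab, _root_.mul_one]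

variable {k : Type u} [Field k]

/-- A homomorphism of abelian varieties killed by a nonzero integer is trivial. -/
theorem eq_one_of_pow {A B : Over (Spec (CommRingCat.of k))} [GrpObj A] [GrpObj B] [IsProper A.hom]
    [GeometricallyIntegral A.hom] [IsProper B.hom] [GeometricallyIntegral B.hom] (f : A ⟶ B) [IsMonHom f] {m : ℕ}
    (hm : m ≠ 0) (h : f ^ m = 1) : f = 1 := by
  haveI : IsCommMonObj A := isCommMonObj_of_isProper_of_geometricallyIntegral A
  haveI : IsCommMonObj B := isCommMonObj_of_isProper_of_geometricallyIntegral B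
  haveI : IsProper (A ⊗ B).hom := inferInstanceAs (IsProper (pullback.fst A.hom B.hom ≫ A.hom))
  haveI : GeometricallyIntegral (A ⊗ B).hom :=
    W7Cube.geometricallyIntegral_prod (IsPullback.of_hasPullback A.hom B.hom) (A ⊗ B).hom rfl
  haveI : IsCommMonObj (A ⊗ B) := isCommMonObj_of_isProper_of_geometricallyIntegral (A ⊗ B)
  let U : EndAV.End (A ⊗ B) := EndAV.End.of (fst A B ≫ f ≫ lift 1 (𝟙 B))
  have hU : m • U = 0 := EndAV.End.ext (by
    rw [EndAV.End.toHom_nsmul]
    show (fst A B ≫ f ≫ lift 1 (𝟙 B)) ^ m = 1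
    rw [← MonObj.comp_pow, ← MonObj.pow_comp, h, MonObj.one_comp, MonObj.comp_one])
  have hU0 : U = 0 := by
    refine AVDeg.toEnd0_injective ?_
    have h1 : ((m : ℚ)) • EndAV.toEnd0 U = 0 := by
      rw [Nat.cast_smul_eq_nsmul, ← map_nsmul, hU, map_zero]
    rw [map_zero]
    rw [← inv_smul_smul₀ (Nat.cast_ne_zero.2 hm : (m : ℚ) ≠ 0) (EndAV.toEnd0 U), h1, smul_zero]
  have h2 := congrArg (fun V => lift (𝟙 A) (1 : A ⟶ B) ≫ EndAV.End.toHom V ≫ snd A B) hU0
  simpa [U, MonObj.one_comp, MonObj.comp_one] using h2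

/-- A homomorphism of abelian varieties has a pseudo-inverse up to a nonzero integer. -/
theorem exists_pseudoInverse {A B : Over (Spec (CommRingCat.of k))} [GrpObj A] [GrpObj B] [IsProper A.hom]
    [GeometricallyIntegral A.hom] [IsProper B.hom] [GeometricallyIntegral B.hom] (f : A ⟶ B) [IsMonHom f] :
    ∃ (v : B ⟶ A) (_ : IsMonHom v) (m : ℕ), m ≠ 0 ∧ f ≫ v ≫ f = f ^ m := by
  haveI : IsCommMonObj A := isCommMonObj_of_isProper_of_geometricallyIntegral A
  haveI : IsCommMonObj B := isCommMonObj_of_isProper_of_geometricallyIntegral B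
  haveI : IsProper (A ⊗ B).hom := inferInstanceAs (IsProper (pullback.fst A.hom B.hom ≫ A.hom))
  haveI : GeometricallyIntegral (A ⊗ B).hom :=
    W7Cube.geometricallyIntegral_prod (IsPullback.of_hasPullback A.hom B.hom) (A ⊗ B).hom rfl
  haveI : IsCommMonObj (A ⊗ B) := isCommMonObj_of_isProper_of_geometricallyIntegral (A ⊗ B)
  let U : EndAV.End (A ⊗ B) := EndAV.End.of (fst A B ≫ f ≫ lift 1 (𝟙 B))
  haveI : IsSemisimpleRing (EndAV.End0 (A ⊗ B)) := AgIsog.isSemisimpleRing_end0
  obtain ⟨y, hy⟩ := exists_regular (EndAV.toEnd0 U)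
  obtain ⟨n, F, hn, rfl⟩ := AgIsog.toEnd0_denom y
  have hn' : (n : ℚ) ≠ 0 := Nat.cast_ne_zero.2 hn
  have hUFU : U * F * U = n • U := by
    refine AVDeg.toEnd0_injective ?_
    rw [map_nsmul, map_mul, map_mul, ← Nat.cast_smul_eq_nsmul ℚ n]
    conv_rhs => rw [← hy]
    rw [mul_smul_comm, smul_mul_assoc, smul_smul, mul_inv_cancel₀ hn', one_smul]
  haveI := EndAV.Hom.isMonHom_toHom F
  refine ⟨lift 1 (𝟙 B) ≫ EndAV.End.toHom F ≫ fst A B, inferInstance, n, hn, ?_⟩
  have h2 := congrArg (fun V => lift (𝟙 A) (1 : A ⟶ B) ≫ EndAV.End.toHom V ≫ snd A B) hUFU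
  simp only [EndAV.End.toHom_mul, EndAV.End.toHom_nsmul, U, EndAV.End.toHom_of, Category.assoc,
    lift_fst_assoc, lift_snd, Category.comp_id, MonObj.pow_comp, MonObj.comp_pow, Category.id_comp] at h2
  exact h2

end Groth.Agent.NeronSS
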