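import Groth.Agent.NeronSS.Pow
import Groth.Agent.NeronSS.PseudoInv

/-!
# Endomorphisms killing the identity component of the special fibre
-/

set_option autoImplicit false
set_option backward.isDefEq.respectTransparency false
set_option backward.isDefEq.respectTransparency.types false
set_option linter.style.haveILetI false
set_option linter.unusedSectionVars false
set_option maxHeartbeats 1000000
set_option synthInstance.maxHeartbeats 400000
universe u

open CategoryTheory CategoryTheory.Limits MonoidalCategory CartesianMonoidalCategory MonObj AlgebraicGeometry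
open scoped CategoryTheory.Obj

namespace Groth.Agent.NeronSS

/-- An open connected subgroup of an algebraic group over a field. -/
theorem exists_open_component {k : Type u} [Field k] (X : Over (Spec (CommRingCat.of k))) [GrpObj X]
    [Smooth X.hom] [QuasiCompact X.hom] :
    ∃ (C : Over (Spec (CommRingCat.of k))) (_ : GrpObj C) (c : C ⟶ X), IsMonHom c ∧ IsClosedImmersion c.left ∧
      IsOpenImmersion c.left ∧ Smooth C.hom ∧ ConnectedSpace C.left := by
  obtain ⟨C, hC, c, hcm, hcc, hcf, hcr, hgi, -, -⟩ := GrpComp.exists_identity_subgroup X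
  haveI := hcm; haveI := hcc; haveI := hgi; haveI := hcf
  haveI : IsLocallyNoetherian X.left := LocallyOfFiniteType.isLocallyNoetherian X.hom
  haveI : LocallyOfFinitePresentation c.left := LocallyOfFinitePresentation.iff_locallyOfFiniteType.2 inferInstance
  haveI hco : IsOpenImmersion c.left := IsOpenImmersion.of_flat_of_mono c.left
  haveI : Smooth C.hom := by rw [← Over.w c]; infer_instance
  haveI : ConnectedSpace ↥C.left := by
    haveI : PreconnectedSpace ↥C.left :=
      ⟨c.left.isEmbedding.isInducing.isPreconnected_image.1 (by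
        rw [Set.image_univ, hcr]; exact isPreconnected_connectedComponent)⟩
    exact { toNonempty := ⟨η[C].left (IsLocalRing.closedPoint k)⟩ }
  exact ⟨C, hC, c, hcm, hcc, hco, inferInstance, inferInstance⟩

/-- A morphism from a reduced scheme whose image is the unit point is trivial. -/
theorem eq_one_of_range {k : Type u} [Field k] {C F : Over (Spec (CommRingCat.of k))} [GrpObj F] [IsSeparated F.hom]
    [IsReduced C.left] (f : C ⟶ F) (h : ∀ z, f.left z = η[F].left (IsLocalRing.closedPoint k)) : f = 1 := by
  haveI : IsClosedImmersion (η[F] : 𝟙_ _ ⟶ F).left := by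
    haveI : IsClosedImmersion ((η[F] : 𝟙_ _ ⟶ F).left ≫ F.hom) := by
      rw [Over.w]; exact inferInstanceAs (IsClosedImmersion (𝟙 _))
    exact IsClosedImmersion.of_comp _ F.hom
  let p := pullback.fst f.left η[F].left
  haveI : Surjective p := ⟨fun x => by
    have hx : x ∈ Set.range p := by
      rw [Scheme.Pullback.range_fst]; exact ⟨IsLocalRing.closedPoint k, (h x).symm⟩
    exact hx⟩
  haveI : IsIso p := isIso_of_isClosedImmersion_of_surjective p
  have h1 : (inv p ≫ pullback.snd f.left η[F].left) ≫ η[F].left = f.left := by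
    rw [Category.assoc, ← pullback.condition, IsIso.inv_hom_id_assoc]
  let j : C ⟶ 𝟙_ (Over (Spec (CommRingCat.of k))) := Over.homMk (inv p ≫ pullback.snd f.left η[F].left) (by
    rw [← Over.w (η[F] : 𝟙_ _ ⟶ F), ← Category.assoc, h1]; exact Over.w f)
  rw [Hom.one_def, show f = j ≫ η[F] from Over.OverMorphism.ext h1.symm, toUnit_unique j (toUnit C)]

variable {R K : Type u} [CommRing R] [IsDomain R] [IsDiscreteValuationRing R] [Field K] [Algebra R K]
  [IsFractionRing R K]

/-- **A homomorphism complementary to one which kills the identity component of the special fibre is dominant.** -/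
theorem map_eq_one_of_special {N : Over (Spec (CommRingCat.of R))} [GrpObj N] [IsCommMonObj N] [Smooth N.hom]
    [IsSeparated N.hom] [QuasiCompact N.hom] [IsProper ((SGA7.genFib R K).obj N).hom]
    [GeometricallyIntegral ((SGA7.genFib R K).obj N).hom]
    (hss : SGA7.FibresUnipotentRankZero N) (e : N ⟶ N) [IsMonHom e] {m : ℕ} (hm : m ≠ 0)
    (he : e ≫ e = e ^ m)
    (hk : ∀ z ∈ SGA7.secComp R N η[N], e.left z = η[N].left (IsLocalRing.closedPoint R)) :
    (SGA7.genFib R K).map e = 1 := by
  let S := Spec (CommRingCat.of R)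
  let s : S := IsLocalRing.closedPoint R
  let a := Spec.map (CommRingCat.ofHom (algebraMap R K))
  haveI hpow : IsMonHom ((𝟙 N : N ⟶ N) ^ m) := isMonHom_id_pow N m
  let e' : N ⟶ N := (𝟙 N) ^ m * e⁻¹
  have hcomp : e' ≫ e = 1 := by
    rw [MonObj.mul_comp, GrpObj.inv_comp, MonObj.pow_comp, Category.id_comp, he, mul_inv_cancel]
  let g := S.fromSpecResidueField s
  let F := GrpField.fib N s
  letI : GrpObj F := GrpField.fibGrp N s
  haveI : Smooth F.hom := inferInstanceAs (Smooth (pullback.snd N.hom g))
  haveI : QuasiCompact F.hom := inferInstanceAs (QuasiCompact (pullback.snd N.hom g))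
  haveI : IsSeparated F.hom := inferInstanceAs (IsSeparated (pullback.snd N.hom g))
  haveI : IsCommMonObj F := inferInstanceAs (IsCommMonObj ((Over.pullback g).obj N))
  obtain ⟨C, hC, c, hcm, hcc, hco, hCs, hCc⟩ := exists_open_component (k := S.residueField s) F
  haveI := hcm; haveI := hcc; haveI := hco; haveI := hCs; haveI := hCc
  let pt : ↥(Spec (S.residueField s)) := IsLocalRing.closedPoint (S.residueField s)
  let p : F.left ⟶ N.left := pullback.fst N.hom g
  have hp : Function.Injective p := (pullback.fst N.hom g).isEmbedding.injective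
  have hrp : Set.range p = SGA7.specialFibreSet R N := by
    show Set.range (pullback.fst N.hom g) = _
    rw [Scheme.Pullback.range_fst, Scheme.range_fromSpecResidueField]
    rfl
  have hgpt : g pt = s := Scheme.fromSpecResidueField_apply _ _
  have hpη : p (η[F].left pt) = η[N].left s := by
    have h1 : η[F].left ≫ p = g ≫ η[N].left := by
      let ε₀ := Functor.LaxMonoidal.ε (Over.pullback g)
      have h2 : ε₀.left ≫ pullback.snd (𝟙_ (Over S)).hom g = 𝟙 _ := Over.w ε₀
      have h3 : ε₀.left ≫ pullback.fst (𝟙_ (Over S)).hom g = g := by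
        have h4 := congrArg (ε₀.left ≫ ·) (pullback.condition (f := (𝟙_ (Over S)).hom) (g := g))
        simp only [← Category.assoc, h2] at h4
        exact (Category.comp_id _).symm.trans (h4.trans (Category.id_comp _))
      rw [show (η[F] : 𝟙_ _ ⟶ F) = ε₀ ≫ (Over.pullback g).map η[N] from Functor.obj.η_def _,
        Over.comp_left, Category.assoc,
        show ((Over.pullback g).map η[N]).left ≫ p = pullback.fst _ g ≫ η[N].left from pullback.lift_fst _ _ _,
        ← Category.assoc, h3]
    exact (Scheme.Hom.comp_apply η[F].left p pt).symm.trans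
      ((congrArg (fun f => f pt) h1).trans ((Scheme.Hom.comp_apply g η[N].left pt).trans (congrArg _ hgpt)))
  have hsub : ∀ z : C.left, p (c.left z) ∈ SGA7.secComp R N η[N] := fun z => by
    refine (isPreconnected_range (p.continuous.comp c.left.continuous)).subset_connectedComponentIn ?_ ?_ ⟨z, rfl⟩
    · refine ⟨η[C].left pt, ?_⟩
      show p (c.left (η[C].left pt)) = η[N].left s
      rw [← Scheme.Hom.comp_apply η[C].left, ← Over.comp_left, IsMonHom.one_hom]
      exact hpη
    · rintro _ ⟨w, rfl⟩
      exact hrp ▸ ⟨_, rfl⟩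
  let es := GrpField.fibHom e s
  have hce : c ≫ es = 1 := by
    haveI : IsReduced C.left := SmoothRed.isReduced_of_smooth_scheme C.hom
    refine eq_one_of_range (k := S.residueField s) (c ≫ es) fun z => hp ?_
    rw [hpη, Over.comp_left, Scheme.Hom.comp_apply]
    refine Eq.trans ?_ (hk _ (hsub z))
    show p (es.left (c.left z)) = e.left (p (c.left z))
    rw [← Scheme.Hom.comp_apply, ← Scheme.Hom.comp_apply]
    exact congrArg (fun f : F.left ⟶ N.left => f (c.left z)) (GrpField.fibHom_fst e s)
  have hmap : GrpField.fibHom e' s = (𝟙 F) ^ m * es⁻¹ := by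
    show (Over.pullback g).map e' = _
    rw [show (Over.pullback g).map e' = (Over.pullback g).map ((𝟙 N) ^ m) * ((Over.pullback g).map e)⁻¹ from
      (map_mul (Over.pullback g).homMonoidHom _ _).trans
        (congrArg _ (map_inv (Over.pullback g).homMonoidHom e)), map_id_pow]
  have hiso : SGA7.IsIsogenyOver (GrpField.fibHom ((𝟙 N : N ⟶ N) ^ m) (a (IsLocalRing.closedPoint K))) :=
    isogeny_genPoint hm
  haveI : LocallyOfFiniteType (((𝟙 N : N ⟶ N) ^ m).left ≫ N.hom) := by rw [Over.w]; infer_instance
  have hts := genPoint_specializes R K s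
  haveI hfm : Flat (GrpField.fibHom ((𝟙 N : N ⟶ N) ^ m) s).left :=
    flat_fibHom _ hts hiso (lqf_fibHom _ hts (hss s) hiso.2)
  haveI : IsMonHom e⁻¹ := by rw [Hom.inv_def]; infer_instance
  haveI : IsMonHom e' := MaxAb.isMonHom_mul _ _
  have hce' : c ≫ GrpField.fibHom e' s = c ≫ GrpField.fibHom ((𝟙 N : N ⟶ N) ^ m) s := by
    rw [hmap, MonObj.comp_mul, GrpObj.comp_inv, hce, inv_one, _root_.mul_one]
    exact congrArg (c ≫ ·) (map_id_pow g N m).symm
  haveI : Flat (GrpField.fibHom e' s).left := by
    haveI hfl : Flat (c.left ≫ (GrpField.fibHom e' s).left) := by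
      rw [← Over.comp_left, hce', Over.comp_left]; infer_instance
    let z : C.left := η[C].left pt
    haveI : LocallyOfFiniteType (GrpField.fibHom e' s).left := by
      haveI : LocallyOfFiniteType ((GrpField.fibHom e' s).left ≫ F.hom) := by rw [Over.w]; infer_instance
      exact locallyOfFiniteType_of_comp _ F.hom
    refine GrpField.flat_of_flat_stalkMap (GrpField.fibHom e' s) (x := c.left z) ?_
    have h := Flat.stalkMap (c.left ≫ (GrpField.fibHom e' s).left) z
    rw [Scheme.Hom.stalkMap_comp] at h
    exact (RingHom.Flat.respectsIso.cancel_right_isIso _ (c.left.stalkMap z)).1 h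
  let x₀ : N.left := η[N].left s
  have hx₀ : N.hom x₀ = s := by
    rw [← Scheme.Hom.comp_apply, Over.w η[N]]
    rfl
  have hfl₀ : (e'.left.stalkMap x₀).hom.Flat := GrpLoc.flatAt_of_fibHom e' (hx₀.symm ▸ ‹Flat (GrpField.fibHom e' s).left›)
  haveI := GrpLoc.lfp_left e'
  let O := FibreFlat.flatOpen e'.left
  haveI := FibreFlat.flat_flatOpen e'.left
  haveI : UniversallyOpen (O.ι ≫ e'.left) := UniversallyOpen.of_flat _
  let W : Set N.left := Set.range (O.ι ≫ e'.left)
  have hWo : IsOpen W := (O.ι ≫ e'.left).isOpenMap.isOpen_range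
  have hWne : W.Nonempty := ⟨_, ⟨x₀, hfl₀⟩, rfl⟩
  let G := (SGA7.genFib R K).obj N
  let q : G.left ⟶ N.left := pullback.fst N.hom a
  haveI := schDom_genPt' R K
  haveI : IsSchemeTheoreticallyDominant q :=
    inferInstanceAs (IsSchemeTheoreticallyDominant (pullback.fst N.hom a))
  have hd : DenseRange q := IsDominant.denseRange (f := q)
  let fK := (SGA7.genFib R K).map e'
  haveI : IsCommMonObj G := isCommMonObj_of_isProper_of_geometricallyIntegral G
  haveI : QuasiCompact (fK.left ≫ G.hom) := by rw [Over.w]; infer_instance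
  haveI : QuasiCompact fK.left := QuasiCompact.of_comp _ G.hom
  haveI := AVDeg.isIntegral_av G
  haveI : Flat fK.left := by
    refine flat_of_range fK (W := q ⁻¹' W) (hWo.preimage q.continuous) ?_ ?_
    · exact hd.exists_mem_open hWo hWne
    · intro w hw
      obtain ⟨x, hx⟩ := hw
      have sq : IsPullback (pullback.fst N.hom a) fK.left e'.left q := by
        refine IsPullback.of_bot ?_ (pullback.lift_fst _ _ _).symm (IsPullback.of_hasPullback N.hom a)
        rw [show fK.left ≫ pullback.snd N.hom a = pullback.snd N.hom a from pullback.lift_snd _ _ _, Over.w e']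
        exact IsPullback.of_hasPullback N.hom a
      obtain ⟨z, -, hz⟩ := Scheme.Pullback.exists_preimage_pullback (f := e'.left) (g := q) (O.ι x) w
        ((Scheme.Hom.comp_apply _ _ _).symm.trans hx)
      refine ⟨sq.isoPullback.inv z, ?_⟩
      exact (Scheme.Hom.comp_apply sq.isoPullback.inv _ z).symm.trans
        ((congrArg (fun f => f z) sq.isoPullback_inv_snd).trans hz)
  haveI := surjective_of_flat fK
  haveI : Epi fK.left := Flat.epi_of_flat_of_surjective _
  haveI : Epi fK := Over.epi_of_epi_left fK
  rw [← cancel_epi fK, MonObj.comp_one]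
  show (Over.pullback a).map e' ≫ (Over.pullback a).map e = 1
  rw [← Functor.map_comp, hcomp]
  exact map_one (Over.pullback a).homMonoidHom

end Groth.Agent.NeronSS
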