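import Groth.Agent.NeronSS.Lift
import Groth.Agent.UnitUnram.Basic
import Groth.Agent.AutFinOrd.NoGa
import Groth.Agent.Chev.TorsionFinite
import Groth.Agent.Chev.SADesc
import Groth.Agent.Chev.Main
import Groth.Prelude.Def_SGA7IX

/-!
# Homomorphisms from groups without additive subgroups, quasi-finite on a generisation
-/

set_option autoImplicit false
set_option backward.isDefEq.respectTransparency false
set_option backward.isDefEq.respectTransparency.types false
set_option linter.style.haveILetI false
set_option maxHeartbeats 1000000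
set_option synthInstance.maxHeartbeats 400000
universe u

open CategoryTheory CategoryTheory.Limits MonoidalCategory CartesianMonoidalCategory MonObj AlgebraicGeometry
open scoped CategoryTheory.Obj

namespace Groth.Agent.NeronSS

theorem isCommMonObj_of_mono {S : Scheme.{u}} {G H : Over S} [GrpObj G] [GrpObj H] [IsCommMonObj G] (j : H ⟶ G)
    [IsMonHom j] [Mono j] : IsCommMonObj H := ⟨by
  rw [show μ[H] = fst H H * snd H H from Eq.symm (by rw [Hom.mul_def, lift_fst_snd, Category.id_comp]),
    MonObj.comp_mul, braiding_hom_fst, braiding_hom_snd, ← cancel_mono j, MonObj.mul_comp, MonObj.mul_comp]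
  exact mul_comm _ _⟩

variable {k : Type u} [Field k] [IsAlgClosed k]

/-- A semi-abelian variety which is not finite has a point of order `l`. -/
theorem exists_order_point {A : Over (Spec (CommRingCat.of k))} [GrpObj A] [IsCommMonObj A] [Smooth A.hom]
    [QuasiCompact A.hom] [ConnectedSpace A.left] (hA : Chev.IsSA A) {l : ℕ} (hl1 : 1 < l) (hl : (l : k) ≠ 0)
    (hfin : ¬ IsFinite A.hom) :
    ∃ z : 𝟙_ (Over (Spec (CommRingCat.of k))) ⟶ A, z ^ l = 1 ∧ z ≠ 1 := by
  by_contra hcon
  simp only [not_exists, not_and, not_not] at hcon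
  refine hfin (Chev.isFinite_of_torsion_trivial (hA.bc _) (𝟙 A) hl1 fun Y h hh => ?_)
  let pm : A ⟶ A := 𝟙 A ^ l
  let Q := pullback pm η[A]
  let j : Q ⟶ A := pullback.fst _ _
  have hQ : IsPullback j (toUnit Q) pm η[A] := by
    rw [toUnit_unique (toUnit Q) (pullback.snd _ η[A])]
    exact IsPullback.of_hasPullback _ _
  have hsq : IsPullback j.left (toUnit Q).left pm.left η[A].left := hQ.map (Over.forget _)
  have he : Etale pm.left := by
    have h := Groth.Agent.FieldPow.etale_pow A (n := (l : ℤ)) (by exact_mod_cast hl)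
    rwa [zpow_natCast] at h
  haveI : Etale Q.hom := MorphismProperty.of_isPullback hsq he
  have h1 : (η[A] : 𝟙_ _ ⟶ A) = 1 := by rw [Hom.one_def, toUnit_unit, Category.id_comp]
  let σ : 𝟙_ (Over (Spec (CommRingCat.of k))) ⟶ Q := hQ.lift η[A] (𝟙 _) (by
    rw [MonObj.comp_pow, Category.comp_id, Category.id_comp, h1, one_pow])
  haveI : IsOpenImmersion σ.left := EtaleSections.isOpenImmersion_section Q.hom σ.left (Over.w σ)
  haveI : Surjective σ.left := by
    refine ⟨fun x => ?_⟩
    by_contra hx
    haveI : JacobsonSpace Q.left := LocallyOfFiniteType.jacobsonSpace Q.hom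
    obtain ⟨c, hc, hcc⟩ := nonempty_inter_closedPoints (Z := (Set.range σ.left)ᶜ) ⟨x, hx⟩
      σ.left.isOpenEmbedding.isOpen_range.isClosed_compl.isLocallyClosed
    let qp : 𝟙_ (Over (Spec (CommRingCat.of k))) ⟶ Q :=
      Over.homMk (pointOfClosedPoint Q.hom c hcc) (pointOfClosedPoint_comp Q.hom c hcc)
    have hq : qp = σ := by
      refine hQ.hom_ext ?_ (toUnit_unique _ _)
      rw [hQ.lift_fst]
      refine (hcon (qp ≫ j) ?_).trans h1.symm
      rw [← Category.comp_id j, ← Category.assoc, ← MonObj.comp_pow, Category.assoc, hQ.w, ← Category.assoc,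
        Hom.one_def, toUnit_unique (qp ≫ toUnit Q) (toUnit _)]
    refine hc ⟨IsLocalRing.closedPoint k, ?_⟩
    rw [← hq]
    exact pointOfClosedPoint_apply Q.hom c hcc _
  haveI : IsIso σ.left := (isIso_iff_isOpenImmersion_and_surjective _).2 ⟨inferInstance, inferInstance⟩
  haveI : IsIso ((Over.forget _).map σ) := ‹IsIso σ.left›
  haveI : IsIso σ := isIso_of_reflects_iso σ (Over.forget _)
  let l' : Y ⟶ Q := hQ.lift h (toUnit Y) (by rw [MonObj.comp_pow, Category.comp_id, hh, Hom.one_def])
  have : h = (l' ≫ inv σ) ≫ σ ≫ j := by simp [l']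
  rw [this, hQ.lift_fst, toUnit_unique (l' ≫ inv σ) (toUnit Y)]
  exact Hom.one_def.symm

/-- An infinite closed subgroup of a group without additive subgroups has points of all orders `l^ν`. -/
theorem exists_torsion_point {G N : Over (Spec (CommRingCat.of k))} [GrpObj G] [IsCommMonObj G] [GrpObj N]
    [LocallyOfFiniteType G.hom] [QuasiCompact G.hom] (hG : AutFinOrd.NoGaSub G) (j : N ⟶ G) [IsMonHom j]
    [IsClosedImmersion j.left] (hinf : ¬ Finite N.left) {l : ℕ} (hl1 : 1 < l) (hl : (l : k) ≠ 0) (ν : ℕ) :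
    ∃ z : 𝟙_ (Over (Spec (CommRingCat.of k))) ⟶ N, z ^ (l ^ (ν + 1)) = 1 ∧ z ^ (l ^ ν) ≠ 1 := by
  haveI : LocallyOfFiniteType N.hom := by rw [← Over.w j]; infer_instance
  haveI : QuasiCompact N.hom := by rw [← Over.w j]; infer_instance
  obtain ⟨R, hR, r, hrm, hrc, hrs, hRsm⟩ := Chev.exists_red_group N
  haveI := hrm; haveI := hrc; haveI := hrs; haveI := hRsm
  haveI : QuasiCompact R.hom := by rw [← Over.w r]; infer_instance
  obtain ⟨A, hA, c, hcm, hcc, hAs, hAi, hcr⟩ := Chev.exists_component R
  haveI := hcm; haveI := hcc; haveI := hAs; haveI := hAi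
  haveI : QuasiCompact A.hom := by rw [← Over.w c]; infer_instance
  let f : A ⟶ G := (c ≫ r) ≫ j
  haveI : IsClosedImmersion f.left :=
    inferInstanceAs (IsClosedImmersion ((c.left ≫ r.left) ≫ j.left))
  haveI : Mono f := GrpField.SchImg.mono_of_isClosedImmersion f
  haveI : IsCommMonObj A := isCommMonObj_of_mono f
  have hSA : Chev.IsSA A := AutFinOrd.isSA_of_noGa fun g hg hgc =>
    hG (g ≫ f) inferInstance (inferInstanceAs (IsClosedImmersion (g.left ≫ f.left)))
  have hAfin : ¬ IsFinite A.hom := by
    intro hfin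
    haveI := hfin
    apply hinf
    haveI : Finite R.left := Chev.finite_of_component_singleton R fun x hx => by
      have he : η[R].left (IsLocalRing.closedPoint k) ∈ Set.range c.left := hcr ▸ mem_connectedComponent
      have hx' : x ∈ Set.range c.left := by
        rw [hcr]
        exact (isPreirreducible_singleton.closure.isPreconnected).subset_connectedComponent
          (specializes_iff_mem_closure.1 hx) (subset_closure rfl)
      obtain ⟨a, rfl⟩ := hx'
      obtain ⟨e, he⟩ := he
      rw [← he] at hx ⊢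
      rw [GrpField.eq_of_specializes_of_isIntegralHom A.hom (c.left.isClosedEmbedding.isInducing.specializes_iff.1 hx)
        (Subsingleton.elim (α := PrimeSpectrum k) _ _)]
    exact Finite.of_surjective r.left r.left.surjective
  haveI : Surjective (𝟙 A ^ l).left := hSA.surjective_pow (by omega)
  suffices ∃ z : 𝟙_ (Over (Spec (CommRingCat.of k))) ⟶ A, z ^ (l ^ (ν + 1)) = 1 ∧ z ^ (l ^ ν) ≠ 1 by
    obtain ⟨z, h1, h2⟩ := this
    refine ⟨z ≫ c ≫ r, by rw [← MonObj.pow_comp, h1, MonObj.one_comp], fun h => h2 ?_⟩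
    rw [← cancel_mono f, MonObj.one_comp]
    have h' : (z ^ (l ^ ν)) ≫ c ≫ r = 1 := by rw [MonObj.pow_comp]; exact h
    show (z ^ (l ^ ν)) ≫ (c ≫ r) ≫ j = 1
    rw [← Category.assoc, h', MonObj.one_comp]
  induction ν with
  | zero =>
    obtain ⟨z, h1, h2⟩ := exists_order_point hSA hl1 hl hAfin
    exact ⟨z, by rwa [zero_add, pow_one], by rwa [pow_zero, pow_one]⟩
  | succ ν ih =>
    obtain ⟨z, h1, h2⟩ := ih
    obtain ⟨w, hw⟩ := Chev.exists_rat_lift (𝟙 A ^ l) z
    rw [MonObj.comp_pow, Category.comp_id] at hw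
    exact ⟨w, by rw [pow_succ' l (ν + 1), pow_mul, hw, h1], by rw [pow_succ' l ν, pow_mul, hw]; exact h2⟩

variable {S : Scheme.{u}}

/-- A homomorphism which is quasi-finite at a generisation of a point where the source has no additive subgroup
in its geometric fibre is quasi-finite at that point. -/
theorem lqf_fibHom {G H : Over S} [GrpObj G] [IsCommMonObj G] [GrpObj H] [Flat G.hom]
    [LocallyOfFinitePresentation G.hom] [IsSeparated G.hom] [QuasiCompact G.hom] [LocallyOfFiniteType H.hom]
    (u : G ⟶ H) [IsMonHom u] {s t : S} (hts : t ⤳ s) (hs : SGA7.FibreUnipotentRankZero s G)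
    (hfin : ∀ (N : Over (Spec (CommRingCat.of (S.residueField t)))) (j : N ⟶ GrpField.fib G t),
      AlgGrp.IsKernel j (GrpField.fibHom u t) → IsFinite N.hom) :
    LocallyQuasiFinite (GrpField.fibHom u s).left := by
  obtain ⟨N, hN, i, hi, hmono, hsq, hmem⟩ := AgIsog.exists_kernel u
  have hker : AlgGrp.IsKernel i u := IsPullback.of_map (Over.forget _) (by ext1; exact hsq.w) hsq
  let g := S.fromSpecResidueField s
  let K := AlgebraicClosure (S.residueField s)
  let h : Spec (CommRingCat.of K) ⟶ Spec (S.residueField s) :=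
    Spec.map (CommRingCat.ofHom (algebraMap (S.residueField s) K))
  let w := Red.geomPt s
  let F := Over.pullback w
  haveI : LocallyOfFiniteType (F.obj G).hom := inferInstanceAs (LocallyOfFiniteType (pullback.snd G.hom w))
  haveI : QuasiCompact (F.obj G).hom := inferInstanceAs (QuasiCompact (pullback.snd G.hom w))
  haveI : LocallyOfFiniteType (F.obj H).hom := inferInstanceAs (LocallyOfFiniteType (pullback.snd H.hom w))
  haveI : IsCommMonObj (F.obj G) := inferInstanceAs (IsCommMonObj ((Over.pullback w).obj G))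
  haveI : IsMonHom (F.map i) := inferInstance
  have hk : ∀ {S' : Scheme.{u}} (g : S' ⟶ S), AlgGrp.IsKernel ((Over.pullback g).map i) ((Over.pullback g).map u) := by
    intro S' g
    let F := Over.pullback g
    let e := Functor.Monoidal.εIso F
    refine (hker.map F).of_iso (Iso.refl _) (Iso.refl _) e.symm (Iso.refl _) (by simp [F])
      (toUnit_unique _ _) (by simp [F]) ?_
    change F.map η[H] ≫ 𝟙 _ = e.inv ≫ Functor.LaxMonoidal.ε F ≫ F.map η[H]
    rw [Category.comp_id, ← Category.assoc]
    refine ((congrArg (fun t => t ≫ F.map η[H]) (?_ : e.inv ≫ Functor.LaxMonoidal.ε F = 𝟙 _)).trans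
      (Category.id_comp _)).symm
    exact e.inv_hom_id
  haveI : IsClosedImmersion (F.map i).left := by
    haveI := GrpField.isClosedImmersion_eta (F.obj H)
    exact MorphismProperty.of_isPullback ((hk w).map (Over.forget _)).flip this
  by_cases hinf : Finite (F.obj N).left
  · haveI : LocallyOfFiniteType (GrpField.fib G s).hom :=
      inferInstanceAs (LocallyOfFiniteType (pullback.snd G.hom g))
    haveI : LocallyOfFiniteType (GrpField.fibHom u s).left := by
      haveI : LocallyOfFiniteType ((GrpField.fibHom u s).left ≫ (GrpField.fib H s).hom) := by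
        rw [Over.w]; infer_instance
      exact locallyOfFiniteType_of_comp _ (GrpField.fib H s).hom
    refine (UnitUnram.lqf_iff_kernel (GrpField.fibHom u s) ((Over.pullback g).map i) (hk g)).2 ?_
    haveI : LocallyOfFiniteType (GrpField.fib N s).hom := by
      haveI : LocallyOfFiniteType (F.map i).left := inferInstance
      exact UnitUnram.kernel_hom (GrpField.fibHom u s) ((Over.pullback g).map i) @LocallyOfFiniteType (hk g)
        inferInstance
    let p : pullback N.hom w ⟶ pullback N.hom g :=
      pullback.map N.hom w N.hom g (𝟙 _) h (𝟙 _) (by simp) (by rw [Category.comp_id])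
    haveI : Surjective h := ⟨fun x => ⟨IsLocalRing.closedPoint K, Subsingleton.elim (α := PrimeSpectrum _) _ _⟩⟩
    have sq : IsPullback p (pullback.snd N.hom w) (pullback.snd N.hom g) h := by
      refine IsPullback.of_right ?_ (pullback.lift_snd _ _ _) (IsPullback.of_hasPullback N.hom g)
      simp only [p, pullback.map, pullback.lift_fst, Category.comp_id]
      exact IsPullback.of_hasPullback N.hom w
    haveI : Surjective p := MorphismProperty.of_isPullback (P := @Surjective) sq.flip ‹_›
    haveI : Finite ↥(pullback N.hom g) := by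
      haveI : Finite ↥(pullback N.hom w) := hinf
      exact Finite.of_surjective p p.surjective
    haveI : QuasiCompact (GrpField.fib N s).hom := by
      haveI : CompactSpace ↥(GrpField.fib N s).left :=
        ⟨(Set.toFinite (Set.univ : Set ↥(pullback N.hom g))).isCompact⟩
      exact (quasiCompact_iff_compactSpace (GrpField.fib N s).hom).2 inferInstance
    exact .of_finite_preimage_singleton _ fun b => by
      haveI : Finite ↥(GrpField.fib N s).left := ‹Finite ↥(pullback N.hom g)›
      exact Set.toFinite _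
  exfalso
  obtain ⟨d, hd⟩ := exists_bound u t hfin
  obtain ⟨l, hlp, hl⟩ : ∃ l : ℕ, l.Prime ∧ (l : S.residueField s) ≠ 0 := by
    by_cases h2 : ((2 : ℕ) : S.residueField s) = 0
    · refine ⟨3, Nat.prime_three, fun h3 => one_ne_zero (α := S.residueField s) ?_⟩
      have : ((3 : ℕ) : S.residueField s) - ((2 : ℕ) : S.residueField s) = 1 := by norm_num
      rw [← this, h2, h3, sub_zero]
    · exact ⟨2, Nat.prime_two, h2⟩
  have hlK : (l : K) ≠ 0 := by
    rw [← map_natCast (algebraMap (S.residueField s) K)]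
    exact (map_ne_zero _).2 hl
  have hG' : AutFinOrd.NoGaSub (F.obj G) := hs
  obtain ⟨z, hz1, hz2⟩ := exists_torsion_point hG' (F.map i) hinf hlp.one_lt hlK d
  let e0 : Over.mk w ⟶ (Over.map w).obj (𝟙_ (Over (Spec (CommRingCat.of K)))) :=
    Over.homMk (𝟙 _) (by exact (Category.id_comp _).trans (Category.id_comp _))
  let E : ∀ X : Over S, (𝟙_ (Over (Spec (CommRingCat.of K))) ⟶ F.obj X) → (Over.mk w ⟶ X) :=
    fun X x => e0 ≫ ((Over.mapPullbackAdj w).homEquiv _ X).symm x
  have hEpow : ∀ (n : ℕ) (x : 𝟙_ (Over (Spec (CommRingCat.of K))) ⟶ F.obj N), E N (x ^ n) = E N x ^ n := by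
    let Φ : (𝟙_ (Over (Spec (CommRingCat.of K))) ⟶ F.obj N) →* (Over.mk w ⟶ N) :=
      MonoidHom.mk' (E N) fun a b => by
        show e0 ≫ _ = (e0 ≫ _) * (e0 ≫ _)
        rw [LimGrp.homEquiv_symm_mul, MonObj.comp_mul]
    exact fun n x => map_pow Φ x n
  have hEinj : Function.Injective (E N) := fun x y hxy => by
    refine ((Over.mapPullbackAdj w).homEquiv _ N).symm.injective ?_
    ext1
    have h := congrArg (fun φ => φ.left) hxy
    simp only [E, Over.comp_left, e0, Over.homMk_left] at h
    exact (Category.id_comp _).symm.trans (h.trans (Category.id_comp _))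
  have hE1 : E N 1 = 1 := by
    have := hEpow 0 1
    rwa [pow_zero, pow_zero] at this
  let y : Over.mk w ⟶ G := E N z ≫ i
  have hy1 : y ^ (l ^ (d + 1)) = 1 := by rw [← MonObj.pow_comp, ← hEpow, hz1, hE1, MonObj.one_comp]
  have hy2 : y ^ (l ^ d) ≠ 1 := fun hh => hz2 (hEinj (by
    rw [← MonObj.pow_comp, ← hEpow] at hh
    rw [hE1]
    exact (cancel_mono i).1 (hh.trans (MonObj.one_comp i).symm)))
  have hyu : y ≫ u = 1 := (hmem _ y).1 ⟨_, rfl⟩
  have hw : w (IsLocalRing.closedPoint K) = s :=
    (Scheme.Hom.comp_apply _ _ _).trans (Scheme.fromSpecResidueField_apply _ _)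
  obtain ⟨L, _, a, ha, z', h1, h2, h3⟩ := exists_generization u hts (m := l ^ (d + 1)) (n := l ^ d)
    (by rw [Nat.cast_pow]; exact pow_ne_zero _ hl) w hw y hy1 hyu hy2
  obtain ⟨i', hi0, hid, hi1⟩ := hd L a ha z' h2
  haveI : Fact l.Prime := ⟨hlp⟩
  have ho : orderOf z' = l ^ (d + 1) := orderOf_eq_prime_pow h3 h1
  have h4 := Nat.le_of_dvd hi0 (orderOf_dvd_of_pow_eq_one hi1)
  have h5 : d + 1 < l ^ (d + 1) := Nat.lt_pow_self hlp.one_lt
  omega

end Groth.Agent.NeronSS
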